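import Groth.Agent.UnipLie.Tower
import Groth.Agent.GRingCpl.ConnFibre
import Mathlib.RingTheory.Norm.Basic

/-!
# Connected groups with nilpotent Lie algebra
-/

set_option autoImplicit false
set_option linter.style.haveILetI false
set_option linter.unusedSectionVars false
set_option backward.isDefEq.respectTransparency false

universe u

open TensorProduct Coalgebra
open Groth.Agent.Comod
open scoped Groth.Agent.Comod

noncomputable section

namespace Groth.Agent.UnipLie

/-- Connectedness with a rational point survives finite extensions. -/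
theorem idem_trivial_finite {k F : Type u} [Field k] [CommRing F] [Algebra k F] (ε : F →ₐ[k] k)
    (hF : ∀ e : F, IsIdempotentElem e → e = 0 ∨ e = 1) (L : Type u) [Field L] [Algebra k L] [Module.Finite k L]
    (e : L ⊗[k] F) (he : IsIdempotentElem e) : e = 0 ∨ e = 1 := by
  classical
  let b := Module.finBasis k L
  let bF := Algebra.TensorProduct.basis F b
  let π : F ⊗[k] L →ₐ[k] L :=
    (Algebra.TensorProduct.lid k L).toAlgHom.comp (Algebra.TensorProduct.map ε (AlgHom.id k L))
  haveI : Module.Free F (F ⊗[k] L) := Module.Free.of_basis bF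
  haveI : Module.Finite F (F ⊗[k] L) := Module.Finite.of_basis bF
  have key : ∀ y : F ⊗[k] L, IsIdempotentElem y → π y = 1 → y = 1 := by
    intro y hy hπ
    have hd : IsIdempotentElem (Algebra.norm F y) := by rw [IsIdempotentElem, ← map_mul, hy.eq]
    have hε : ε (Algebra.norm F y) = 1 := by
      rw [Algebra.norm_eq_matrix_det bF]
      refine Eq.trans (RingHom.map_det (ε : F →+* k) _) ?_
      have hM : (ε : F →+* k).mapMatrix (Algebra.leftMulMatrix bF y) = Algebra.leftMulMatrix b (π y) := by
        ext i j
        rw [RingHom.mapMatrix_apply, Matrix.map_apply, Algebra.leftMulMatrix_eq_repr_mul,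
          Algebra.leftMulMatrix_eq_repr_mul]
        have hr : ∀ z : F ⊗[k] L, ε (bF.repr z i) = b.repr (π z) i := by
          intro z
          induction z using TensorProduct.induction_on with
          | zero => simp
          | tmul f l => simp [bF, π, mul_comm]
          | add u v hu hv => simp only [map_add, Finsupp.add_apply, hu, hv]
        show ε (bF.repr (y * bF j) i) = _
        rw [hr, map_mul]
        congr 3
        simp [bF, π]
      rw [hM, hπ, map_one, Matrix.det_one]
    rcases hF _ hd with h | h
    · rw [h, map_zero] at hε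
      exact absurd hε zero_ne_one
    · have h1 : IsUnit (Algebra.lmul F (F ⊗[k] L) y) := by
        rw [LinearMap.isUnit_iff_isUnit_det, ← Algebra.norm_apply, h]
        exact isUnit_one
      obtain ⟨z, hz⟩ := ((Module.End.isUnit_iff _).mp h1).2 1
      have hu : IsUnit y := IsUnit.of_mul_eq_one z hz
      exact hu.mul_left_cancel (hy.eq.trans (mul_one y).symm)
  let c := Algebra.TensorProduct.comm k L F
  have hc : IsIdempotentElem (c e) := by rw [IsIdempotentElem, ← map_mul, he.eq]
  rcases IsIdempotentElem.iff_eq_zero_or_one.mp (show IsIdempotentElem (π (c e)) by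
      rw [IsIdempotentElem, ← map_mul, hc.eq]) with h | h
  · refine Or.inl (c.injective ?_)
    have := key (1 - c e) hc.one_sub (by rw [map_sub, map_one, h, sub_zero])
    rw [map_zero]
    exact sub_eq_self.mp this
  · exact Or.inr (c.injective ((key _ hc h).trans (map_one c).symm))

/-- Connectedness with a rational point is geometric. -/
theorem idem_trivial_geometric {k A : Type u} [Field k] [CommRing A] [HopfAlgebra k A]
    (hA : ∀ e : A, IsIdempotentElem e → e = 0 ∨ e = 1) (e : AlgebraicClosure k ⊗[k] A)
    (he : IsIdempotentElem e) : e = 0 ∨ e = 1 :=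
  GRingCpl.idem_trivial_algClosure
    (fun L _ _ _ z hz => idem_trivial_finite (Bialgebra.counitAlgHom k A) hA L z hz) e he

variable {k : Type u} [Field k] [PerfectField k] (p : ℕ) [hp : Fact p.Prime] [hch : CharP k p]
variable {A : Type u} [CommRing A] [HopfAlgebra k A] [Algebra.FiniteType k A]

include hp hch in
/-- Over an algebraically closed field the formal fixed vectors of a connected group are fixed. -/
theorem isUnipotent_of_nilLie_connected [IsAlgClosed k] (hL : NilLie k A)
    (hconn : ∀ e : A, IsIdempotentElem e → e = 0 ∨ e = 1) : HopfRep.IsUnipotent k A := by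
  intro V _ _ _ hfin hnt
  classical
  haveI : IsNoetherianRing A := Algebra.FiniteType.isNoetherianRing k A
  haveI : CharP A p := FinHopf.charP_of_algHom (Bialgebra.counitAlgHom k A) p
  obtain ⟨v, hv, hv0⟩ := (Submodule.ne_bot_iff _).1 (formalFixed_ne_bot (k := k) (A := A) p V hL)
  refine (Submodule.ne_bot_iff _).2 ⟨v, tensor_eq_of_cL fun φ => ?_, hv0⟩
  rw [cL_tmul, ← Algebra.algebraMap_eq_smul_one]
  set c := cL φ (HopfRep.Comod.coact (k := k) (A := A) v)
  have hεc : counit (R := k) c = φ v := by
    show (counit (R := k) (A := A)) (cL φ _) = φ v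
    rw [cR_cL]
    congr 1
    have h1 := congr(TensorProduct.rid k V ($(HopfRep.Comod.counit_comp (k := k) (A := A) (V := V)) v))
    simpa [cR] using h1
  rw [← hεc]
  let u : A := c - algebraMap k A (counit (R := k) c)
  -- `u` is locally constant
  let N : Ideal A :=
    { carrier := {s | ∃ Q : Polynomial k, Q.eval 0 ≠ 0 ∧ s * (u * Polynomial.aeval u Q) = 0}
      zero_mem' := ⟨1, by simp, zero_mul _⟩
      add_mem' := by
        rintro s t ⟨Q, hQ, hs⟩ ⟨R, hR, ht⟩
        refine ⟨Q * R, by simp [hQ, hR], ?_⟩
        rw [map_mul]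
        linear_combination Polynomial.aeval u R * hs + Polynomial.aeval u Q * ht
      smul_mem' := by
        rintro r s ⟨Q, hQ, hs⟩
        exact ⟨Q, hQ, by rw [smul_eq_mul, mul_assoc, hs, mul_zero]⟩ }
  have hN : N = ⊤ := by
    by_contra hne
    obtain ⟨M, hM, hNM⟩ := Ideal.exists_le_maximal _ hne
    haveI := hM
    letI : Field (A ⧸ M) := Ideal.Quotient.field M
    haveI : Algebra.FiniteType k (A ⧸ M) :=
      Algebra.FiniteType.of_surjective (Ideal.Quotient.mkₐ k M) Ideal.Quotient.mk_surjective
    haveI : Module.Finite k (A ⧸ M) := finite_of_finite_type_of_isJacobsonRing k (A ⧸ M)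
    let g : A →ₐ[k] k := (IsAlgClosed.lift : (A ⧸ M) →ₐ[k] k).comp (Ideal.Quotient.mkₐ k M)
    have hker : RingHom.ker g = M := by
      ext x
      rw [RingHom.mem_ker]
      show (IsAlgClosed.lift : (A ⧸ M) →ₐ[k] k) (Ideal.Quotient.mk M x) = 0 ↔ _
      exact (map_eq_zero_iff _ (IsAlgClosed.lift : (A ⧸ M) →ₐ[k] k).injective).trans Ideal.Quotient.eq_zero_iff_mem
    have hpow : ∀ n : ℕ, c - algebraMap k A (g c) ∈ M ^ n := by
      intro n
      obtain ⟨a, ha⟩ := (mem_formalFixed (k := k) (A := A) p V).mp hv n φ
      have hga : (a - algebraMap k A (g a)) ^ p ^ n = c - algebraMap k A (g c) := by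
        rw [sub_pow_char_pow, ha, ← map_pow, ← map_pow, ha]
      rw [← hga]
      refine Ideal.pow_le_pow_right (Nat.lt_pow_self hp.out.one_lt).le (Ideal.pow_mem_pow ?_ _)
      rw [← hker, RingHom.mem_ker, map_sub, AlgHom.commutes]
      exact sub_self _
    have hmem : algebraMap A (Localization.AtPrime M) (c - algebraMap k A (g c)) ∈
        ⨅ n : ℕ, (IsLocalRing.maximalIdeal (Localization.AtPrime M)) ^ n := by
      rw [Ideal.mem_iInf]
      intro n
      rw [← Localization.AtPrime.map_eq_maximalIdeal, ← Ideal.map_pow]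
      exact Ideal.mem_map_of_mem _ (hpow n)
    haveI : IsNoetherianRing (Localization.AtPrime M) :=
      IsLocalization.isNoetherianRing M.primeCompl _ inferInstance
    rw [Ideal.iInf_pow_eq_bot_of_isLocalRing _ (IsLocalRing.maximalIdeal.isMaximal _).ne_top, Ideal.mem_bot,
      IsLocalization.map_eq_zero_iff M.primeCompl] at hmem
    obtain ⟨⟨s, hs⟩, hsu⟩ := hmem
    let l : k := g c - counit (R := k) c
    have hsu' : s * (u - algebraMap k A l) = 0 := by
      rw [← hsu]
      simp [u, l]
    refine hs (hNM ?_)
    by_cases hl : l = 0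
    · rw [hl, map_zero, sub_zero] at hsu'
      exact ⟨1, by simp, by rw [map_one, mul_one, hsu']⟩
    · refine ⟨Polynomial.X - Polynomial.C l, by simp [hl], ?_⟩
      rw [map_sub, Polynomial.aeval_X, Polynomial.aeval_C]
      linear_combination u * hsu'
  obtain ⟨Q, hQ, h1⟩ : (1 : A) ∈ N := hN ▸ Submodule.mem_top
  rw [one_mul] at h1
  obtain ⟨R, hR⟩ : ∃ R, Q - Polynomial.C (Q.eval 0) = Polynomial.X * R :=
    (Polynomial.X_dvd_iff (f := Q - Polynomial.C (Q.eval 0))).mpr (by simp [Polynomial.coeff_zero_eq_eval_zero])
  let e : A := (Q.eval 0)⁻¹ • Polynomial.aeval u Q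
  have hR' := congrArg (Polynomial.aeval u) hR
  rw [map_sub, map_mul, Polynomial.aeval_X, Polynomial.aeval_C] at hR'
  have he1 : e - 1 = (Q.eval 0)⁻¹ • (u * Polynomial.aeval u R) := by
    rw [← hR', smul_sub, Algebra.algebraMap_eq_smul_one, smul_smul, inv_mul_cancel₀ hQ, one_smul]
  have he : IsIdempotentElem e := by
    rw [IsIdempotentElem, ← sub_eq_zero, show e * e - e = e * (e - 1) by ring, he1]
    simp only [e, smul_mul_smul_comm]
    rw [show Polynomial.aeval u Q * (u * Polynomial.aeval u R) =
      u * Polynomial.aeval u Q * Polynomial.aeval u R by ring, h1, zero_mul, smul_zero]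
  have hεu : counit (R := k) u = 0 := by simp [u]
  have hu : u = 0 := by
    rcases hconn e he with h | h
    · exfalso
      have h2 := congrArg (Bialgebra.counitAlgHom k A) he1
      rw [h] at h2
      simp [hεu] at h2
    · have : u * e = 0 := by rw [mul_smul_comm, h1, smul_zero]
      rwa [h, mul_one] at this
  exact sub_eq_zero.mp hu

end Groth.Agent.UnipLie
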