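import Groth.Agent.UnipLie.Pow
import Groth.Prelude.Def_Lie2

/-! The Lie algebra of the prelude as derivations in the dual algebra. -/

set_option autoImplicit false
set_option backward.isDefEq.respectTransparency false

universe u

open Groth.Agent.Comod TensorProduct

noncomputable section

namespace Groth.Agent.UnipLie

variable {k : Type u} [Field k] {A : Type u} [CommRing A] [HopfAlgebra k A]

/-- The functional of an element of the Lie algebra. -/
def lieFun (D : LieHopf.Lie k A) : A →ₗ[k] k := D.toLinearMap.restrictScalars k ∘ₗ LinearMap.id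

theorem eDer_lie (D : LieHopf.Lie k A) : EDer (WithConv.toConv (lieFun D) : CDual k A) := by
  intro a b
  show lieFun D (a * b) = Coalgebra.counit (R := k) a * lieFun D b + lieFun D a * Coalgebra.counit (R := k) b
  refine Eq.trans (D.leibniz a b) ?_
  rw [LieHopf.smul_def, LieHopf.smul_def]
  show (Bialgebra.counitAlgHom k A a : k) • lieFun D b + (Bialgebra.counitAlgHom k A b : k) • lieFun D a = _
  simp only [smul_eq_mul, Bialgebra.counitAlgHom_apply]
  ring

theorem exists_lie {X : CDual k A} (hX : EDer X) :
    ∃ D : LieHopf.Lie k A, lieFun D = X.ofConv := by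
  refine ⟨Derivation.mk' (R := k) (A := A) (M := LieHopf.K k A) X.ofConv fun a b => ?_, LinearMap.ext fun a => rfl⟩
  show X.ofConv (a * b) = _
  rw [hX]
  show _ = (Bialgebra.counitAlgHom k A a : k) * X.ofConv b + (Bialgebra.counitAlgHom k A b : k) * X.ofConv a
  simp [mul_comm]

theorem convPow_eq (f : A →ₗ[k] k) : ∀ n, LieHopf.convPow f n = (WithConv.toConv f ^ n : CDual k A).ofConv
  | 0 => by
    ext a
    simp [LieHopf.convPow, LinearMap.convOne_def]
  | n + 1 => by
    rw [pow_succ, LieHopf.convPow, convPow_eq f n]
    ext a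
    rw [mul_apply']
    rfl

theorem convPow_eq_zero_iff (f : A →ₗ[k] k) (n : ℕ) :
    LieHopf.convPow f n = 0 ↔ (WithConv.toConv f ^ n : CDual k A) = 0 := by
  rw [convPow_eq]
  exact ⟨fun h => WithConv.ofConv_injective h, fun h => by rw [h]; rfl⟩

end Groth.Agent.UnipLie
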