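import Groth.Agent.UnipLie.HeightOne
import Groth.Agent.UnipConil.Comodules
import Mathlib.Algebra.Lie.Nilpotent

/-!
# Nilpotence of the Lie algebra is geometric
-/

set_option autoImplicit false
set_option linter.style.haveILetI false
set_option linter.unusedSectionVars false
set_option backward.isDefEq.respectTransparency false

universe u

open TensorProduct Coalgebra
open Groth.Agent.Comod
open scoped Groth.Agent.Comod

noncomputable section

namespace Groth.Agent.UnipLie

attribute [local instance] LieRing.ofAssociativeRing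

variable {k : Type u} [Field k] {A : Type u} [CommRing A] [HopfAlgebra k A]

/-- All products of `m` derivations kill the element. -/
def Killed : ℕ → A → Prop
  | 0, a => counit (R := k) a = 0
  | m + 1, a => ∀ D : CDual k A, EDer D → Killed m (cR D.ofConv (comul (R := k) a))

/-- Engel: every element is killed by long products of derivations. -/
theorem exists_killed_len (hL : NilLie k A) (a : A) : ∃ N, ∀ m, N ≤ m → Killed (k := k) m a := by
  obtain ⟨S, haS, hfin⟩ := exists_finite_subcomod (K := k) (C := A) (V := A) a
  let W := ofDSub S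
  have hW : HopfRep.IsSubcomod (k := k) (A := A) W := isSubcomod_ofDSub S
  letI cW : HopfRep.Comod k A W := ComodSub.Comod.restr (HopfRep.Comod.regular k A) W hW
  let L : LieSubalgebra k (Module.End k W) :=
    { carrier := {T | ∃ X : CDual k A, EDer X ∧ dact k A W X = T}
      zero_mem' := ⟨0, EDer.zero, map_zero _⟩
      add_mem' := by
        rintro _ _ ⟨X, hX, rfl⟩ ⟨Y, hY, rfl⟩
        exact ⟨X + Y, hX.add hY, map_add _ _ _⟩
      smul_mem' := by
        rintro c _ ⟨X, hX, rfl⟩
        exact ⟨c • X, hX.smul c, map_smul _ _ _⟩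
      lie_mem' := by
        rintro _ _ ⟨X, hX, rfl⟩ ⟨Y, hY, rfl⟩
        exact ⟨X * Y - Y * X, hX.bracket hY, by rw [map_sub, map_mul, map_mul]; rfl⟩ }
  haveI hn : LieModule.IsNilpotent L W := by
    rw [LieModule.isNilpotent_iff_forall' (R := k)]
    rintro ⟨_, X, hX, rfl⟩
    exact (hL X hX).map (dact k A W)
  obtain ⟨N, hN⟩ := LieModule.IsNilpotent.nilpotent k L W
  let η : W →ₗ[k] k := (counit (R := k) (A := A)) ∘ₗ W.subtype
  have key : ∀ m j, N ≤ j + m → ∀ w ∈ LieModule.lowerCentralSeries k L W j,
      Killed (k := k) m (cL η (HopfRep.Comod.coact (k := k) (A := A) w)) := by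
    intro m
    induction m with
    | zero =>
      intro j hj w hw
      have hw0 : w = 0 := by
        have := LieModule.antitone_lowerCentralSeries k L W hj hw
        rw [hN] at this
        simpa using this
      show counit (R := k) (cL η (HopfRep.Comod.coact (k := k) (A := A) w)) = 0
      rw [hw0, map_zero, map_zero, map_zero]
    | succ m ih =>
      intro j hj w hw D hD
      show Killed (k := k) m _
      erw [coeff_smul D η w]
      refine ih (j + 1) (by omega) _ ?_
      rw [LieModule.lowerCentralSeries_succ]
      exact LieSubmodule.lie_mem_lie (LieSubmodule.mem_top (⟨dact k A W D, D, hD, rfl⟩ : L)) hw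
  refine ⟨N, fun m hm => ?_⟩
  have h := key m 0 (by omega) ⟨a, haS⟩ (LieSubmodule.mem_top _)
  have e : cL η (HopfRep.Comod.coact (k := k) (A := A) (⟨a, haS⟩ : W)) =
      cL (counit (R := k) (A := A)) (comul (R := k) a) := by
    have h1 := ComodSub.restr_coact_coe (HopfRep.Comod.regular k A) W hW ⟨a, haS⟩
    show _ = cL _ ((HopfRep.Comod.regular k A).coact a)
    rw [← h1]
    generalize HopfRep.Comod.coact (k := k) (A := A) (⟨a, haS⟩ : W) = t
    induction t using TensorProduct.induction_on with
    | zero => simp
    | tmul p q => simp [η]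
    | add p q hp hq => simp only [map_add, hp, hq]
  rwa [e, UnipConil.cL_counit_comul'] at h

variable (K : Type u) [Field K] [Algebra k K]

theorem pow_apply_killed {X : CDual K (K ⊗[k] A)} (hX : EDer X) : ∀ (m : ℕ) (a : A),
    Killed (k := k) m a → (X ^ m).ofConv (UnipConil.ι (k := k) K a) = 0 := by
  intro m
  induction m with
  | zero =>
    intro a (ha : counit (R := k) a = 0)
    rw [pow_zero, UnipConil.one_apply]
    show counit (R := K) ((1 : K) ⊗ₜ[k] a) = 0
    rw [TensorProduct.counit_tmul]
    simp [ha]
  | succ m ih =>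
    intro a ha
    rw [pow_succ, ← UnipConil.pair_eq_mul (X ^ m).ofConv X.ofConv, UnipConil.comul_ι]
    set G := ((X ^ m).ofConv.restrictScalars k) ∘ₗ UnipConil.ι (k := k) (A := A) K
    set F := (X.ofConv.restrictScalars k) ∘ₗ UnipConil.ι (k := k) (A := A) K
    have hz : TensorProduct.map G F (comul (R := k) a) = 0 := by
      refine TensorProduct.comm k K K |>.injective ?_
      rw [map_zero]
      refine tensor_eq_of_cL fun χ => ?_
      rw [map_zero]
      have hE : EDer (WithConv.toConv (χ ∘ₗ F) : CDual k A) := by
        intro b b'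
        show χ (X.ofConv ((1 : K) ⊗ₜ[k] (b * b'))) = _
        rw [show (1 : K) ⊗ₜ[k] (b * b') = ((1 : K) ⊗ₜ[k] b) * ((1 : K) ⊗ₜ[k] b') by simp, hX]
        simp only [TensorProduct.counit_tmul, CommSemiring.counit_apply, smul_mul_assoc, one_mul, mul_smul_comm,
          mul_one, map_add, map_smul, smul_eq_mul]
        show _ = _ * χ (X.ofConv ((1 : K) ⊗ₜ[k] b')) + χ (X.ofConv ((1 : K) ⊗ₜ[k] b)) * _
        ring
      have h0 : G (cR (χ ∘ₗ F) (comul (R := k) a)) = 0 := ih _ (ha _ hE)
      rw [← h0]
      generalize comul (R := k) a = t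
      induction t using TensorProduct.induction_on with
      | zero => simp
      | tmul x y => simp
      | add x y hx hy => simp only [map_add, hx, hy]
    rw [hz, map_zero]

/-- Nilpotence of the Lie algebra is stable under extension of the field. -/
theorem nilLie_baseChange (p : ℕ) [hp : Fact p.Prime] [CharP k p] [Algebra.FiniteType k A] (hL : NilLie k A) :
    NilLie K (K ⊗[k] A) := by
  classical
  haveI : CharP K p := charP_of_injective_algebraMap (algebraMap k K).injective p
  intro X hX
  obtain ⟨s, hs⟩ := (inferInstance : Algebra.FiniteType k A).out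
  choose N hN using exists_killed_len (k := k) hL
  obtain ⟨M, hM⟩ : ∃ M, ∀ a ∈ s, ∀ m, M ≤ m → Killed (k := k) m a :=
    ⟨s.sup N, fun a ha m hm => hN a m ((Finset.le_sup ha).trans hm)⟩
  refine ⟨p ^ M, (hX.pow_char p M).eq_zero (s := UnipConil.ι (k := k) K '' (s : Set A)) ?_ ?_⟩
  · refine eq_top_iff.mpr fun x hx0 => ?_
    clear hx0
    induction x using TensorProduct.induction_on with
    | zero => exact zero_mem _
    | add x y hx hy => exact add_mem hx hy
    | tmul c a =>
      rw [show c ⊗ₜ[k] a = c • UnipConil.ι (k := k) K a by simp [UnipConil.ι, TensorProduct.smul_tmul']]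
      refine Subalgebra.smul_mem _ ?_ c
      have ha : a ∈ Algebra.adjoin k (s : Set A) := hs ▸ Algebra.mem_top
      induction ha using Algebra.adjoin_induction with
      | mem x hx => exact Algebra.subset_adjoin ⟨x, hx, rfl⟩
      | algebraMap r =>
        rw [Algebra.algebraMap_eq_smul_one, map_smul, ← algebraMap_smul K r]
        exact Subalgebra.smul_mem _ (one_mem _) _
      | add x y _ _ hx hy => rw [map_add]; exact add_mem hx hy
      | mul x y _ _ hx hy =>
        rw [show UnipConil.ι (k := k) K (x * y) = UnipConil.ι (k := k) K x * UnipConil.ι (k := k) K y by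
          simp [UnipConil.ι]]
        exact mul_mem hx hy
  · rintro _ ⟨a, ha, rfl⟩
    exact pow_apply_killed K hX _ a (hM a ha _ (Nat.lt_pow_self hp.out.one_lt).le)

end Groth.Agent.UnipLie
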