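import Groth.Agent.UnipLie.HeightOne
import Groth.Agent.SigmaLin.SepClosed
import Mathlib.RingTheory.Bialgebra.MonoidAlgebra
import Mathlib.FieldTheory.IsAlgClosed.Basic

/-!
# A non-nilpotent Lie algebra gives a subgroup `μ_p`
-/

set_option autoImplicit false
set_option linter.style.haveILetI false
set_option linter.unusedSectionVars false
set_option backward.isDefEq.respectTransparency false

universe u v

open TensorProduct Coalgebra
open Groth.Agent.Comod
open scoped Groth.Agent.Comod

noncomputable section

namespace Groth.Agent.UnipLie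

section Idem

open Polynomial

variable {k : Type u} [Field k] (p : ℕ) [hp : Fact p.Prime] [CharP k p]

/-- The prime field in the ground field. -/
abbrev pf : ZMod p →+* k := ZMod.castHom (dvd_refl p) k

variable (k) in
/-- The polynomial idempotent of a point of the prime field. -/
def idemPoly (m : ZMod p) : k[X] := 1 - (X - C (pf p m)) ^ (p - 1)

theorem sub_mul_idemPoly (m : ZMod p) : (X - C (pf p m)) * idemPoly k p m = -(X ^ p - X) := by
  rw [idemPoly, mul_sub, mul_one, ← pow_succ', Nat.sub_add_cancel hp.out.one_le, sub_pow_char,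
    ← map_pow, ← map_pow (pf (k := k) p), ZMod.pow_card]
  ring

theorem eval_idemPoly (i m : ZMod p) : (idemPoly k p m).eval (pf p i) = if i = m then 1 else 0 := by
  rw [idemPoly]
  simp only [eval_sub, eval_one, eval_pow, eval_X, eval_C, ← map_sub, ← map_pow]
  split_ifs with h
  · simp [h, zero_pow (show p - 1 ≠ 0 by have := hp.out.two_le; omega)]
  · rw [ZMod.pow_card_sub_one_eq_one (sub_ne_zero.mpr h), map_one, sub_self]

theorem sum_idemPoly : ∑ m : ZMod p, idemPoly k p m = 1 := by
  rw [← sub_eq_zero]
  refine eq_zero_of_natDegree_lt_card_of_eval_eq_zero _ (f := pf (k := k) p) (RingHom.injective _) (fun i => ?_) ?_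
  · rw [eval_sub, eval_finsetSum, eval_one]; simp only [eval_idemPoly]; simp
  · rw [ZMod.card]
    refine lt_of_le_of_lt ?_ (Nat.sub_lt hp.out.pos one_pos)
    refine le_trans (natDegree_sub_le _ _) (max_le ?_ (by simp))
    refine natDegree_sum_le_of_forall_le _ _ fun m _ => ?_
    refine le_trans (natDegree_sub_le _ _) (max_le (by simp) ?_)
    exact natDegree_pow_le.trans (by rw [natDegree_X_sub_C, mul_one])

variable {R : Type v} [Ring R] [Algebra k R]

variable (k) in
/-- The idempotent at a point of the prime field. -/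
def idem (a : R) (m : ZMod p) : R := aeval a (idemPoly k p m)

theorem idem_mul_self {a : R} (ha : a ^ p = a) (m : ZMod p) :
    idem k p a m * a = idem k p a m * algebraMap k R (pf p m) := by
  have h := congrArg (aeval a) ((mul_comm _ _).trans (sub_mul_idemPoly (k := k) p m))
  simp only [map_mul, map_sub, map_neg, map_pow, aeval_X, aeval_C, ha, sub_self, neg_zero] at h
  rwa [mul_sub, sub_eq_zero] at h

theorem sum_idem (a : R) : ∑ m : ZMod p, idem k p a m = 1 := by
  simp only [idem, ← map_sum, sum_idemPoly, map_one]

theorem idem_mul_idem {a : R} (ha : a ^ p = a) (i j : ZMod p) :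
    idem k p a i * idem k p a j = if i = j then idem k p a i else 0 := by
  have key : ∀ Q : k[X], idem k p a i * aeval a Q = Q.eval (pf p i) • idem k p a i := by
    intro Q
    induction Q using Polynomial.induction_on' with
    | add P Q hP hQ => rw [map_add, mul_add, hP, hQ, eval_add, add_smul]
    | monomial n c =>
      have hn : idem k p a i * a ^ n = pf (k := k) p i ^ n • idem k p a i := by
        induction n with
        | zero => simp
        | succ n ih =>
          rw [pow_succ, ← mul_assoc, ih, smul_mul_assoc, idem_mul_self p ha, ← Algebra.commutes,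
            ← Algebra.smul_def, smul_smul, pow_succ]
      rw [aeval_monomial, ← Algebra.smul_def, mul_smul_comm, hn, smul_smul, eval_monomial]
  refine (key _).trans ?_
  rw [eval_idemPoly]
  split_ifs <;> simp

theorem idem_add {a b : R} (ha : a ^ p = a) (hab : Commute a b) (m : ZMod p) :
    idem k p (a + b) m = ∑ i : ZMod p, idem k p a i * idem k p b (m - i) := by
  have hexp : ∀ (y : R) (j : ZMod p), idem k p y j = 1 - (y - algebraMap k R (pf p j)) ^ (p - 1) := fun y j => by
    simp [idem, idemPoly]
  conv_lhs => rw [← one_mul (idem k p (a + b) m), ← sum_idem (k := k) p a, Finset.sum_mul]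
  refine Finset.sum_congr rfl fun i _ => ?_
  have hb : Commute (idem k p a i) b :=
    (Algebra.commute_of_mem_adjoin_singleton_of_commute (aeval_mem_adjoin_singleton k a) hab.symm).symm
  have hy : Commute (idem k p a i) (b - algebraMap k R (pf p (m - i))) :=
    hb.sub_right (Algebra.commute_algebraMap_right _ _)
  have hxy : idem k p a i * (a + b - algebraMap k R (pf p m)) =
      idem k p a i * (b - algebraMap k R (pf p (m - i))) := by
    simp only [mul_sub, mul_add, idem_mul_self p ha, map_sub]
    abel
  have hn : ∀ n : ℕ, idem k p a i * (a + b - algebraMap k R (pf p m)) ^ n =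
      idem k p a i * (b - algebraMap k R (pf p (m - i))) ^ n := by
    intro n
    induction n with
    | zero => simp
    | succ n ih =>
      rw [pow_succ', ← mul_assoc, hxy, hy.eq, mul_assoc, ih, ← mul_assoc, ← hy.eq, mul_assoc, ← pow_succ']
  rw [hexp (a + b) m, hexp b (m - i), mul_sub, mul_sub, hn]

theorem map_idem {S : Type*} [Ring S] [Algebra k S] (φ : R →ₐ[k] S) (a : R) (m : ZMod p) :
    φ (idem k p a m) = idem k p (φ a) m := (aeval_algHom_apply φ a _).symm

end Idem

section Lie

variable {k : Type u} [Field k] {A : Type u} [CommRing A] [HopfAlgebra k A]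

variable (k A) in
/-- The space of `ε`-derivations. -/
def eDerSpace : Submodule k (CDual k A) where
  carrier := {X | EDer X}
  zero_mem' := EDer.zero
  add_mem' h h' := h.add h'
  smul_mem' c _ h := h.smul c

instance [Algebra.FiniteType k A] : Module.Finite k (eDerSpace k A) := by
  obtain ⟨s, hs⟩ := (inferInstance : Algebra.FiniteType k A).out
  let r : eDerSpace k A →ₗ[k] (s → k) :=
    { toFun := fun X x => X.1.ofConv x
      map_add' := fun _ _ => rfl
      map_smul' := fun _ _ => rfl }
  have hr : Function.Injective r := fun X X' h => by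
    have h0 : (X - X').1 = 0 := EDer.eq_zero (X - X').2 hs fun x hx => by
      have := congrFun h ⟨x, hx⟩
      change X.1.ofConv x = X'.1.ofConv x at this
      show X.1.ofConv x - X'.1.ofConv x = 0
      rw [this, sub_self]
    exact sub_eq_zero.mp (Subtype.ext h0)
  exact Module.Finite.of_injective r hr

variable (k A) in
/-- Evaluation of functionals at the unit. -/
def evalOne : CDual k A →ₐ[k] k :=
  AlgHom.ofLinearMap
    { toFun := fun f => f.ofConv 1
      map_add' := fun f g => rfl
      map_smul' := fun c f => rfl }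
    (by simp [UnipConil.one_apply])
    (fun f g => by simp [mul_apply', Bialgebra.comul_one, Algebra.TensorProduct.one_def])

variable (p : ℕ) [hp : Fact p.Prime] [CharP k p]

theorem charP_cdual : CharP (CDual k A) p :=
  charP_of_injective_algebraMap (algebraMap_injective (k := k) (A := A)) p

/-- A derivation which is not nilpotent gives one fixed by the `p`-power map. -/
theorem exists_pow_eq_self [IsSepClosed k] [Algebra.FiniteType k A] {X : CDual k A} (hX : EDer X)
    (hn : ¬ IsNilpotent X) : ∃ Y : CDual k A, EDer Y ∧ Y ≠ 0 ∧ Y ^ p = Y := by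
  haveI := charP_cdual (k := k) (A := A) p
  let V : Submodule k (CDual k A) := Submodule.span k (Set.range fun m : ℕ => X ^ p ^ m)
  have hVE : V ≤ eDerSpace k A := Submodule.span_le.mpr (by
    rintro _ ⟨m, rfl⟩
    exact hX.pow_char p m)
  haveI : Module.Finite k V := Submodule.finiteDimensional_of_le hVE
  have hVX : ∀ v ∈ V, v ∈ Algebra.adjoin k {X} := fun v hv => by
    refine (Submodule.span_le (p := Subalgebra.toSubmodule (Algebra.adjoin k {X}))).mpr ?_ hv
    rintro _ ⟨m, rfl⟩
    exact pow_mem (Algebra.self_mem_adjoin_singleton k X) _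
  have hcomm : ∀ u ∈ V, ∀ v ∈ V, Commute u v := fun u hu v hv =>
    (Algebra.commute_of_mem_adjoin_singleton_of_commute (hVX u hu)
      ((Algebra.commute_of_mem_adjoin_singleton_of_commute (hVX v hv) (Commute.refl X)).symm)).symm
  have hadd : ∀ u ∈ V, ∀ v ∈ V, (u + v) ^ p = u ^ p + v ^ p := fun u hu v hv =>
    add_pow_char_of_commute p (hcomm u hu v hv)
  have hmem : ∀ v ∈ V, v ^ p ∈ V := fun v hv => by
    induction hv using Submodule.span_induction with
    | mem x hx =>
      obtain ⟨m, rfl⟩ := hx
      exact Submodule.subset_span ⟨m + 1, show X ^ p ^ (m + 1) = (X ^ p ^ m) ^ p by rw [← pow_mul, pow_succ]⟩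
    | zero => rw [zero_pow hp.out.ne_zero]; exact zero_mem _
    | add x y hx hy hx' hy' => rw [hadd x hx y hy]; exact add_mem hx' hy'
    | smul c x hx hx' => rw [smul_pow]; exact Submodule.smul_mem _ _ hx'
  let T : V →ₛₗ[SigmaLin.powQ k p 1] V :=
    { toFun := fun v => ⟨(v : CDual k A) ^ p, hmem _ v.2⟩
      map_add' := fun u v => Subtype.ext (hadd _ u.2 _ v.2)
      map_smul' := fun c v => Subtype.ext (by simp [smul_pow, SigmaLin.powQ_apply]) }
  let e : V := ⟨X, Submodule.subset_span ⟨0, by simp⟩⟩
  have hit : ∀ m : ℕ, (((⇑T)^[m] e : V) : CDual k A) = X ^ p ^ m := by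
    intro m
    induction m with
    | zero => simp [e]
    | succ m ih =>
      rw [Function.iterate_succ_apply', pow_succ, pow_mul, ← ih]
      rfl
  obtain ⟨Y, -, hY0, hY⟩ := SigmaLin.exists_fixed (SigmaLin.cond2 k p 1 one_pos) T e
    (fun m h => hn ⟨p ^ m, by rw [← hit m, h]; rfl⟩)
  exact ⟨Y, hVE Y.2, fun h => hY0 (Subtype.ext h), congrArg Subtype.val hY⟩

theorem left_mul_right_apply (f g : CDual k A) (a b : A) :
    (leftDual k A f * rightDual k A g).ofConv (a ⊗ₜ[k] b) = f.ofConv a * g.ofConv b := by
  rw [mul_tmul_apply]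
  have h : ∀ s t : A ⊗[k] A,
      LinearMap.mul' k k (TensorProduct.map (leftDual k A f).ofConv (rightDual k A g).ofConv
        (TensorProduct.AlgebraTensorModule.tensorTensorTensorComm k k k k A A A A (s ⊗ₜ[k] t))) =
      f.ofConv (cR (counit (R := k)) s) * g.ofConv (cL (counit (R := k)) t) := by
    intro s t
    induction s using TensorProduct.induction_on with
    | zero => simp
    | add x y hx hy => simp only [TensorProduct.add_tmul, map_add, hx, hy, add_mul]
    | tmul x x' =>
      induction t using TensorProduct.induction_on with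
      | zero => simp
      | add u v hu hv => simp only [TensorProduct.tmul_add, map_add, hu, hv, mul_add]
      | tmul y y' => simp [leftDual_apply, rightDual_apply]; ring
  have eR : cR (counit (R := k)) (comul (R := k) a) = a := by
    show TensorProduct.rid k A ((counit (R := k) (A := A)).lTensor A (comul (R := k) a)) = a
    rw [Coalgebra.lTensor_counit_comul]; simp
  have eL : cL (counit (R := k)) (comul (R := k) b) = b := by
    show TensorProduct.lid k A ((counit (R := k) (A := A)).rTensor A (comul (R := k) b)) = b
    rw [Coalgebra.rTensor_counit_comul]; simp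
  rw [h, eR, eL]

/-- An `ε`-derivation fixed by the `p`-power map gives a subgroup `μ_p`. -/
theorem exists_mu_of_fixed {Y : CDual k A} (hY : EDer Y) (hY0 : Y ≠ 0) (hYp : Y ^ p = Y) :
    ∃ φ : A →ₐc[k] MonoidAlgebra k (Multiplicative (ZMod p)), Function.Surjective φ := by
  classical
  let e : ZMod p → CDual k A := idem k p Y
  have he1 : ∀ m, (e m).ofConv 1 = if m = 0 then 1 else 0 := fun m => by
    show evalOne k A (idem k p Y m) = _
    rw [map_idem, show evalOne k A Y = 0 from hY.one, idem, Polynomial.coe_aeval_eq_eval,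
      show (0 : k) = pf (k := k) p 0 from (map_zero _).symm, eval_idemPoly]
    exact if_congr eq_comm rfl (by simp)
  have hmul : ∀ m a b, (e m).ofConv (a * b) = ∑ i, (e i).ofConv a * (e (m - i)).ofConv b := by
    intro m a b
    rw [← mulDual_apply (k := k) (e m) a b, show mulDual k A (e m) = idem k p (mulDual k A Y) m from map_idem p _ _ _,
      eDer_iff.mp hY, idem_add p (by rw [← map_pow, hYp]) (commute_left_right Y Y), WithConv.ofConv_sum,
      LinearMap.sum_apply]
    refine Finset.sum_congr rfl fun i _ => ?_
    rw [← map_idem, ← map_idem, left_mul_right_apply]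
  let S : ZMod p → k →ₗ[k] MonoidAlgebra k (Multiplicative (ZMod p)) := fun m =>
    MonoidAlgebra.lsingle (Multiplicative.ofAdd m)
  let φl : A →ₗ[k] MonoidAlgebra k (Multiplicative (ZMod p)) := ∑ m, S m ∘ₗ (e m).ofConv
  have hφ : ∀ a, φl a = ∑ m, MonoidAlgebra.single (Multiplicative.ofAdd m) ((e m).ofConv a) := fun a => by
    simp [φl, S]
  let φa : A →ₐ[k] MonoidAlgebra k (Multiplicative (ZMod p)) := AlgHom.ofLinearMap φl
    (by
      rw [hφ, Finset.sum_eq_single 0 (fun m _ hm => by rw [he1, if_neg hm, MonoidAlgebra.single_zero])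
        (by simp), he1, if_pos rfl, ofAdd_zero, MonoidAlgebra.one_def])
    (fun a b => by
      rw [hφ, hφ, hφ, Finset.sum_mul_sum]
      simp only [MonoidAlgebra.single_mul_single, ← ofAdd_add, hmul]
      simp only [← MonoidAlgebra.lsingle_apply (R := k), map_sum]
      rw [Finset.sum_comm]
      refine Finset.sum_congr rfl fun i _ => ?_
      refine (Fintype.sum_equiv (Equiv.addLeft i) _ _ fun j => ?_).symm
      simp)
  have hev : ∀ (t : A ⊗[k] A), TensorProduct.map φl φl t = ∑ i, ∑ j,
      LinearMap.mul' k k (TensorProduct.map (e i).ofConv (e j).ofConv t) •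
        (MonoidAlgebra.single (Multiplicative.ofAdd i) (1 : k) ⊗ₜ[k]
          MonoidAlgebra.single (Multiplicative.ofAdd j) (1 : k)) := by
    intro t
    induction t using TensorProduct.induction_on with
    | zero => simp
    | add x y hx hy => simp only [map_add, hx, hy, add_smul, Finset.sum_add_distrib]
    | tmul x y =>
      rw [TensorProduct.map_tmul, hφ, hφ, TensorProduct.sum_tmul]
      refine Finset.sum_congr rfl fun i _ => ?_
      rw [TensorProduct.tmul_sum]
      refine Finset.sum_congr rfl fun j _ => ?_
      rw [TensorProduct.map_tmul, LinearMap.mul'_apply, ← TensorProduct.smul_tmul_smul,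
        MonoidAlgebra.smul_single, MonoidAlgebra.smul_single, smul_eq_mul, smul_eq_mul, mul_one, mul_one]
  let φ : A →ₐc[k] MonoidAlgebra k (Multiplicative (ZMod p)) := BialgHom.ofAlgHom φa
    (AlgHom.ext fun a => by
      show counit (R := k) (φl a) = counit (R := k) a
      rw [hφ, map_sum]
      simp only [MonoidAlgebra.counit_single, Bialgebra.counit_one, CommSemiring.counit_apply]
      rw [← LinearMap.sum_apply, ← WithConv.ofConv_sum, sum_idem, UnipConil.one_apply])
    (AlgHom.ext fun a => by
      show TensorProduct.map φl φl (comul (R := k) a) = comul (R := k) (φl a)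
      rw [hev, hφ, map_sum]
      refine Finset.sum_congr rfl fun i _ => ?_
      rw [MonoidAlgebra.comul_single, CommSemiring.comul_apply, Finset.sum_eq_single i]
      · rw [← mul_apply', idem_mul_idem p hYp, if_pos rfl, TensorProduct.map_tmul,
          MonoidAlgebra.lsingle_apply, MonoidAlgebra.lsingle_apply, ← TensorProduct.tmul_smul,
          MonoidAlgebra.smul_single, smul_eq_mul, mul_one]
      · intro j _ hj
        rw [← mul_apply', idem_mul_idem p hYp, if_neg (Ne.symm hj)]
        simp
      · simp)
  refine ⟨φ, ?_⟩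
  obtain ⟨m, hm0, hm⟩ : ∃ m, m ≠ 0 ∧ e m ≠ 0 := by
    by_contra! h
    have h1 : e 0 = 1 := by
      rw [← sum_idem (k := k) p Y, Finset.sum_eq_single 0 (fun m _ hm => h m hm) (by simp)]
    have h2 := idem_mul_self (k := k) p hYp 0
    rw [show idem k p Y 0 = 1 from h1, one_mul, one_mul, map_zero, map_zero] at h2
    exact hY0 h2
  obtain ⟨a, ha⟩ : ∃ a, (e m).ofConv a ≠ 0 := by
    by_contra! h
    exact hm (WithConv.ofConv_injective (LinearMap.ext h))
  have hgen : MonoidAlgebra.single (Multiplicative.ofAdd m) (1 : k) ∈ φa.range := by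
    refine ⟨((e m).ofConv a)⁻¹ • cR (e m).ofConv (comul (R := k) a), ?_⟩
    show φl _ = _
    rw [map_smul, hφ]
    have hi : ∀ i, (e i).ofConv (cR (e m).ofConv (comul (R := k) a)) = if i = m then (e m).ofConv a else 0 := by
      intro i
      rw [← UnipConil.pair_eq_cR, UnipConil.pair_eq_mul, idem_mul_idem p hYp]
      split_ifs with h
      · subst h; rfl
      · rfl
    rw [Finset.sum_eq_single m (fun i _ h => by rw [hi, if_neg h, MonoidAlgebra.single_zero]) (by simp), hi,
      if_pos rfl, MonoidAlgebra.smul_single, smul_eq_mul, inv_mul_cancel₀ ha]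
  intro z
  have hz : z ∈ φa.range := by
    induction z using MonoidAlgebra.induction_linear with
    | zero => exact zero_mem _
    | add x y hx hy => exact add_mem hx hy
    | single g c =>
      have hp2 : g = Multiplicative.ofAdd m ^ (g.toAdd * m⁻¹).val := by
        rw [← ofAdd_nsmul, nsmul_eq_mul, ZMod.natCast_zmod_val, mul_assoc, inv_mul_cancel₀ hm0, mul_one,
          ofAdd_toAdd]
      have hc : MonoidAlgebra.single g c = c • (MonoidAlgebra.single (Multiplicative.ofAdd m) (1 : k) ^ (g.toAdd * m⁻¹).val) := by
        rw [MonoidAlgebra.single_pow, one_pow, ← hp2, MonoidAlgebra.smul_single, smul_eq_mul, mul_one]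
      rw [hc]
      exact Subalgebra.smul_mem _ (pow_mem hgen _) c
  exact hz

/-- A non-nilpotent Lie algebra gives a subgroup `μ_p`. -/
theorem exists_mu_of_not_nilLie [IsSepClosed k] [Algebra.FiniteType k A] (h : ¬ NilLie k A) :
    ∃ φ : A →ₐc[k] MonoidAlgebra k (Multiplicative (ZMod p)), Function.Surjective φ := by
  obtain ⟨X, hX, hn⟩ : ∃ X : CDual k A, EDer X ∧ ¬ IsNilpotent X := by
    simpa [NilLie] using h
  obtain ⟨Y, hY, hY0, hYp⟩ := exists_pow_eq_self p hX hn
  exact exists_mu_of_fixed p hY hY0 hYp

end Lie

end Groth.Agent.UnipLie
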