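import Groth.Agent.UnipLie.Tower
import Groth.Agent.UnipLie.MuLie
import Groth.Agent.CommMult.Main
import Groth.Agent.CommMult.Over
import Groth.Agent.Takeuchi.Points
import Groth.Agent.MultT.SplitConn
import Groth.Agent.MultT.TorsionDiag
import Groth.Agent.HopfCartier.Basic
import Groth.Agent.S5423
import Mathlib.RingTheory.SimpleModule.Basic
import Mathlib.Algebra.Module.ZMod

/-!
# Unipotent groups are those without subgroups `μ_n`
-/

set_option autoImplicit false
set_option linter.style.haveILetI false
set_option linter.unusedSectionVars false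
set_option backward.isDefEq.respectTransparency false

universe u

open TensorProduct Coalgebra
open Groth.Agent.Comod
open Groth.Agent.Takeuchi
open scoped Groth.Agent.Comod Groth.Agent.Takeuchi

noncomputable section

namespace Groth.Agent.UnipLie

variable {k : Type u} [Field k]

/-- A non-trivial finitely generated abelian group maps onto a cyclic group of prime order. -/
theorem exists_surj_zmod (M : Type u) [CommGroup M] [Group.FG M] [Nontrivial M] :
    ∃ (l : ℕ), l.Prime ∧ ∃ f : M →* Multiplicative (ZMod l), Function.Surjective f := by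
  haveI : Module.Finite ℤ (Additive M) := Module.Finite.iff_addGroup_fg.mpr inferInstance
  obtain ⟨N, hN⟩ := IsCoatomic.exists_coatom (α := Submodule ℤ (Additive M))
  haveI : IsSimpleModule ℤ (Additive M ⧸ N) := isSimpleModule_iff_isCoatom.mpr hN
  obtain ⟨I, hI, ⟨e⟩⟩ := isSimpleModule_iff_quot_maximal.mp (inferInstance : IsSimpleModule ℤ (Additive M ⧸ N))
  obtain ⟨z, rfl⟩ : ∃ z : ℤ, Ideal.span {z} = I := ⟨_, Ideal.span_singleton_generator I⟩
  have hz : z ≠ 0 := by
    rintro rfl
    exact Ring.ne_bot_of_isMaximal_of_not_isField hI Int.not_isField (by simp)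
  haveI : (Ideal.span {z} : Ideal ℤ).IsPrime := hI.isPrime
  have hp : z.natAbs.Prime := Int.prime_iff_natAbs_prime.mp ((Ideal.span_singleton_prime hz).mp inferInstance)
  let f : Additive M →+ ZMod z.natAbs :=
    ((Int.quotientSpanEquivZMod z).toAddEquiv.toAddMonoidHom.comp e.toLinearMap.toAddMonoidHom).comp
      N.mkQ.toAddMonoidHom
  have hf : Function.Surjective f :=
    ((Int.quotientSpanEquivZMod z).surjective.comp e.surjective).comp N.mkQ_surjective
  exact ⟨_, hp, f.toMultiplicativeRight, hf⟩

/-- A diagonalisable group which is not trivial contains some `μ_l`. -/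
theorem exists_mu_of_isDiag {Y : Type u} [CommRing Y] [HopfAlgebra k Y] [Algebra.FiniteType k Y]
    (h : SGA3b.IsDiag k Y) (hne : ¬ ∀ y : Y, y = algebraMap k Y (counit (R := k) y)) :
    ∃ l : ℕ, l.Prime ∧ ∃ φ : Y →ₐc[k] MonoidAlgebra k (Multiplicative (ZMod l)), Function.Surjective φ := by
  obtain ⟨M, _, ⟨E⟩⟩ := h
  haveI : Algebra.FiniteType k (MonoidAlgebra k M) :=
    (inferInstance : Algebra.FiniteType k Y).equiv (E : Y ≃ₐ[k] MonoidAlgebra k M)
  haveI : Group.FG M := (MonoidAlgebra.finiteType_iff_group_fg (R := k)).mp inferInstance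
  haveI : Nontrivial M := by
    by_contra hM
    rw [not_nontrivial_iff_subsingleton] at hM
    refine hne fun y => EquivLike.injective E ?_
    obtain ⟨c, hc⟩ : ∃ c, E y = algebraMap k (MonoidAlgebra k M) c := by
      induction E y using MonoidAlgebra.induction_linear with
      | zero => exact ⟨0, (map_zero _).symm⟩
      | add x x' hx hx' =>
        obtain ⟨c, rfl⟩ := hx; obtain ⟨c', rfl⟩ := hx'
        exact ⟨c + c', (map_add _ _ _).symm⟩
      | single m c => exact ⟨c, by rw [Subsingleton.elim m 1]; rfl⟩
    have hc' : counit (R := k) y = c := by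
      rw [← CoalgHomClass.counit_comp_apply E y, hc, Bialgebra.counit_algebraMap]
    rw [AlgHomClass.commutes E, hc', hc]
  obtain ⟨l, hl, f, hf⟩ := exists_surj_zmod M
  refine ⟨l, hl, (MonoidAlgebra.mapDomainBialgHom k f).comp (E : Y →ₐc[k] MonoidAlgebra k M), ?_⟩
  suffices hs : Function.Surjective (MonoidAlgebra.mapDomainBialgHom k f) from hs.comp (EquivLike.surjective E)
  intro z
  induction z using MonoidAlgebra.induction_linear with
  | zero => exact ⟨0, map_zero _⟩
  | add x x' hx hx' =>
    obtain ⟨a, rfl⟩ := hx; obtain ⟨b, rfl⟩ := hx'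
    exact ⟨a + b, map_add _ _ _⟩
  | single m c =>
    obtain ⟨g, rfl⟩ := hf m
    exact ⟨MonoidAlgebra.single g c, by simp⟩

variable {A : Type u} [CommRing A] [HopfAlgebra k A]

/-- The functions vanishing on the powers of a point. -/
def powIdeal (g : Pt k A k) : Ideal A := ⨅ j : ℤ, RingHom.ker (g ^ j).ofConv

theorem mem_powIdeal {g : Pt k A k} {a : A} : a ∈ powIdeal g ↔ ∀ j : ℤ, (g ^ j).ofConv a = 0 := by
  simp [powIdeal, Ideal.mem_iInf]

theorem lift_eq_cR (g h : A →ₐ[k] k) (t : A ⊗[k] A) :
    Algebra.TensorProduct.lift g h (fun _ _ => Commute.all _ _) t = g (cR h.toLinearMap t) := by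
  induction t using TensorProduct.induction_on with
  | zero => simp
  | tmul x y => simp [mul_comm]
  | add x y hx hy => simp only [map_add, hx, hy]

theorem eq_zero_of_points (g : Pt k A k) {t : A ⊗[k] A}
    (h : ∀ i j : ℤ, Algebra.TensorProduct.lift (g ^ i).ofConv (g ^ j).ofConv (fun _ _ => Commute.all _ _) t = 0) :
    TensorProduct.map ((powIdeal g).restrictScalars k).mkQ ((powIdeal g).restrictScalars k).mkQ t = 0 := by
  refine tensor_eq_of_cL fun φ => ?_
  rw [map_zero]
  have e : cL φ (TensorProduct.map ((powIdeal g).restrictScalars k).mkQ ((powIdeal g).restrictScalars k).mkQ t) =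
      ((powIdeal g).restrictScalars k).mkQ (cL (φ ∘ₗ ((powIdeal g).restrictScalars k).mkQ) t) := by
    clear h
    induction t using TensorProduct.induction_on with
    | zero => simp
    | tmul x y => simp
    | add x y hx hy => simp only [map_add, hx, hy]
  rw [e, Submodule.mkQ_apply, Submodule.Quotient.mk_eq_zero, Submodule.restrictScalars_mem, mem_powIdeal]
  intro j
  show (g ^ j).ofConv.toLinearMap (cL (φ ∘ₗ ((powIdeal g).restrictScalars k).mkQ) t) = 0
  rw [cR_cL]
  have hmem : cR (g ^ j).ofConv.toLinearMap t ∈ powIdeal g := mem_powIdeal.mpr fun i => by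
    rw [← lift_eq_cR]; exact h i j
  show φ (((powIdeal g).restrictScalars k).mkQ (cR (g ^ j).ofConv.toLinearMap t)) = 0
  rw [show ((powIdeal g).restrictScalars k).mkQ (cR (g ^ j).ofConv.toLinearMap t) = 0 from
    (Submodule.Quotient.mk_eq_zero _).mpr hmem, map_zero]

instance isHopfIdeal_powIdeal (g : Pt k A k) : (powIdeal g).IsHopfIdeal k where
  counit_eq_zero := fun a ha => by
    have := mem_powIdeal.mp ha 0
    rw [zpow_zero] at this
    simpa using (Takeuchi.one_apply (R := k) a).symm.trans this
  map_mkQ_comul_eq_zero := fun a ha => eq_zero_of_points g fun i j => by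
    rw [← mem_powIdeal.mp ha (i + j), zpow_add]
    exact (Takeuchi.mul_apply _ _ a).symm
  antipode_mem := fun a ha => mem_powIdeal.mpr fun j => by
    rw [← mem_powIdeal.mp ha (-j), zpow_neg]
    exact (Takeuchi.inv_apply (g ^ j) a).symm

instance isCocomm_powIdeal (g : Pt k A k) : IsCocomm k (A ⧸ powIdeal g) where
  comm_comp_comul := LinearMap.ext fun y => by
    obtain ⟨a, rfl⟩ := Ideal.Quotient.mk_surjective y
    let π := Ideal.Quotient.mkₐ k (powIdeal g)
    have key : ∀ z : A ⊗[k] A, TensorProduct.comm k (A ⧸ powIdeal g) (A ⧸ powIdeal g)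
        (Algebra.TensorProduct.map π π z) = Algebra.TensorProduct.map π π (TensorProduct.comm k A A z) := by
      intro z
      induction z using TensorProduct.induction_on with
      | zero => simp
      | add u v hu hv => simp only [map_add, hu, hv]
      | tmul u v => rfl
    show TensorProduct.comm k (A ⧸ powIdeal g) (A ⧸ powIdeal g)
        (Algebra.TensorProduct.map π π (comul (R := k) a)) = Algebra.TensorProduct.map π π (comul (R := k) a)
    rw [key, ← sub_eq_zero, ← map_sub]
    refine eq_zero_of_points g fun i j => ?_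
    have hc : ∀ z : A ⊗[k] A, Algebra.TensorProduct.lift (g ^ i).ofConv (g ^ j).ofConv (fun _ _ => Commute.all _ _)
        (TensorProduct.comm k A A z) =
        Algebra.TensorProduct.lift (g ^ j).ofConv (g ^ i).ofConv (fun _ _ => Commute.all _ _) z := by
      intro z
      induction z using TensorProduct.induction_on with
      | zero => simp
      | add u v hu hv => simp only [map_add, hu, hv]
      | tmul u v => simp [mul_comm]
    rw [map_sub, hc]
    have h1 : ((g ^ i * g ^ j) : Pt k A k) a = ((g ^ j * g ^ i) : Pt k A k) a := by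
      rw [← zpow_add, ← zpow_add, add_comm]
    rw [Takeuchi.mul_apply, Takeuchi.mul_apply] at h1
    rw [h1, sub_self]

variable [IsAlgClosed k] [Algebra.FiniteType k A]

attribute [local instance] CommMult.conilHopf

/-- A point which does not act unipotently gives a subgroup `μ_l`. -/
theorem act_nilpotent_of_no_mu
    (hno : ∀ n : ℕ, n.Prime → ¬ ∃ φ : A →ₐc[k] MonoidAlgebra k (Multiplicative (ZMod n)), Function.Surjective φ)
    (g : A →ₐ[k] k) (V : Type u) [AddCommGroup V] [Module k V] [c : HopfRep.Comod k A V] [Module.Finite k V] :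
    IsNilpotent (HopfRep.Comod.act k A V g - 1) := by
  classical
  let P : Pt k A k := WithConv.toConv g
  let I := powIdeal P
  let π : A →ₐc[k] A ⧸ I := Bialgebra.Quotient.mkBialgHom I
  have hπ : Function.Surjective π := Ideal.Quotient.mk_surjective
  haveI : Algebra.FiniteType k (A ⧸ I) :=
    Algebra.FiniteType.of_surjective (π : A →ₐ[k] A ⧸ I) hπ
  let C := CommMult.conilAlg k (A ⧸ I)
  have hC := CommMult.isSubHopf_conilAlg (k := k) (A := A ⧸ I)
  haveI := DiagUnip.isHopfIdeal_aug hC
  let q : A ⧸ I →ₐc[k] (A ⧸ I) ⧸ DiagUnip.aug C := Bialgebra.Quotient.mkBialgHom _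
  haveI : Algebra.FiniteType k ((A ⧸ I) ⧸ DiagUnip.aug C) :=
    Algebra.FiniteType.of_surjective (q : A ⧸ I →ₐ[k] _) Ideal.Quotient.mk_surjective
  have hd : SGA3b.IsDiag k ((A ⧸ I) ⧸ DiagUnip.aug C) :=
    MultT.isDiag_of_isSepClosed (MultT.isMultType_of_const CommMult.isMultTypeConst_quot)
  by_cases htriv : ∀ y : (A ⧸ I) ⧸ DiagUnip.aug C, y = algebraMap k _ (counit (R := k) y)
  · have hconil : UnipConil.IsConil k (A ⧸ I) := by
      intro x
      have hx : x ∈ C := DiagUnip.mem_of_dbar hC (by
        have hp : ∀ z, DiagUnip.prj C z = algebraMap k _ (counit (R := k) z) := fun z =>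
          (htriv _).trans (congrArg _ (CoalgHomClass.counit_comp_apply q z))
        show Algebra.TensorProduct.map (AlgHom.id k (A ⧸ I)) (DiagUnip.prj C) (comul (R := k) x) = _
        have hgen : ∀ t : (A ⧸ I) ⊗[k] (A ⧸ I),
            Algebra.TensorProduct.map (AlgHom.id k (A ⧸ I)) (DiagUnip.prj C) t =
              cR (counit (R := k)) t ⊗ₜ[k] (1 : (A ⧸ I) ⧸ DiagUnip.aug C) := by
          intro t
          induction t using TensorProduct.induction_on with
          | zero => simp
          | tmul u v =>
            rw [Algebra.TensorProduct.map_tmul, AlgHom.id_apply, hp, cR_tmul, Algebra.algebraMap_eq_smul_one,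
              TensorProduct.tmul_smul, TensorProduct.smul_tmul']
          | add u v hu hv => simp only [map_add, hu, hv, TensorProduct.add_tmul]
        rw [hgen]
        congr 1
        show TensorProduct.rid k _ ((counit (R := k) (A := A ⧸ I)).lTensor _ (comul (R := k) x)) = x
        rw [Coalgebra.lTensor_counit_comul]; simp)
      exact hx
    have hP : ∀ a ∈ I, g a = 0 := fun a ha => by
      have := mem_powIdeal.mp ha 1
      rwa [zpow_one] at this
    letI cI : HopfRep.Comod k (A ⧸ I) V := Comod.pushforward π.toCoalgHom c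
    have h := UnipConil.act_sub_one_nilpotent V (UnipConil.isUnipotent_of_conil hconil)
      (Ideal.Quotient.liftₐ I g hP)
    have e : HopfRep.Comod.act k A V g = HopfRep.Comod.act k (A ⧸ I) V (Ideal.Quotient.liftₐ I g hP) := by
      refine LinearMap.ext fun v => ?_
      show TensorProduct.rid k V (g.toLinearMap.lTensor V (c.coact v)) =
        TensorProduct.rid k V ((Ideal.Quotient.liftₐ I g hP).toLinearMap.lTensor V
          ((π.toCoalgHom : A →ₗ[k] A ⧸ I).lTensor V (c.coact v)))
      rw [← LinearMap.lTensor_comp_apply]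
      rfl
    rwa [e]
  · obtain ⟨l, hl, φ, hφ⟩ := exists_mu_of_isDiag hd htriv
    exact absurd ⟨φ.comp (q.comp π), hφ.comp (Ideal.Quotient.mk_surjective.comp hπ)⟩ (hno l hl)

/-- Without subgroups `μ_n` a group is unipotent. -/
theorem isUnipotent_of_no_mu
    (hno : ∀ n : ℕ, n.Prime → ¬ ∃ φ : A →ₐc[k] MonoidAlgebra k (Multiplicative (ZMod n)), Function.Surjective φ) :
    HopfRep.IsUnipotent k A := by
  obtain ⟨p, hp⟩ := CharP.exists k
  rcases eq_or_ne p 0 with rfl | hp0
  · haveI : CharZero k := CharP.charP_to_charZero k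
    haveI : IsReduced A := HopfCartier.isReduced (k := k)
    refine (Groth.Agent.S5423.result k A).mpr fun g V _ _ _ hV => ?_
    haveI := hV
    exact act_nilpotent_of_no_mu hno g V
  · haveI : Fact p.Prime := ⟨(CharP.char_is_prime_or_zero k p).resolve_right hp0⟩
    refine isUnipotent_of_nilLie p ?_ fun g V _ _ _ hV => haveI := hV; act_nilpotent_of_no_mu hno g V
    by_contra h
    exact hno p Fact.out (exists_mu_of_not_nilLie p h)

/-- A unipotent group has no quotient of the form `k[ℤ/n]`. -/
theorem no_mu_of_isConil {K : Type u} [Field K] {X : Type u} [CommRing X] [HopfAlgebra K X]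
    (h : UnipConil.IsConil K X) {n : ℕ} (hn : 1 < n) :
    ¬ ∃ φ : X →ₐc[K] MonoidAlgebra K (Multiplicative (ZMod n)), Function.Surjective φ := by
  rintro ⟨φ, hφ⟩
  haveI : Fact (1 < n) := ⟨hn⟩
  have hc := UnipConil.isConil_of_surjective φ hφ h
  obtain ⟨m, hm⟩ := hc (MonoidAlgebra.single (Multiplicative.ofAdd (1 : ZMod n)) (1 : K))
  have := CommMult.groupLike_eq_one_of_filt (MonoidAlgebra.isGroupLikeElem_single_one _) m hm
  rw [MonoidAlgebra.one_def] at this
  exact one_ne_zero (Multiplicative.ofAdd.injective
    (MonoidAlgebra.single_left_injective (R := K) one_ne_zero this))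

end Groth.Agent.UnipLie
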