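import Groth.Agent.UnipLie.Pow
import Groth.Agent.DiagUnip.RedKer
import Mathlib.Algebra.Lie.Engel
import Mathlib.Algebra.Lie.Subalgebra

/-!
# Groups whose Lie algebra is nilpotent: fixed vectors of the first Frobenius kernel
-/

set_option autoImplicit false
set_option linter.style.haveILetI false
set_option linter.unusedSectionVars false
set_option backward.isDefEq.respectTransparency false

universe u

open TensorProduct Coalgebra
open Groth.Agent.Comod
open scoped Groth.Agent.Comod

noncomputable section

namespace Groth.Agent.UnipLie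

attribute [local instance] LieRing.ofAssociativeRing

variable {k : Type u} [Field k] {A : Type u} [CommRing A] [HopfAlgebra k A]

variable (k A) in
/-- All `ε`-derivations are nilpotent in the dual algebra. -/
def NilLie : Prop := ∀ X : CDual k A, EDer X → IsNilpotent X

/-- Engel: a common killed vector. -/
theorem exists_killed (hL : NilLie k A) (V : Type u) [AddCommGroup V] [Module k V] [HopfRep.Comod k A V]
    [Module.Finite k V] [Nontrivial V] :
    ∃ v : V, v ≠ 0 ∧ ∀ X : CDual k A, EDer X → dact k A V X v = 0 := by
  let L : LieSubalgebra k (Module.End k V) :=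
    { carrier := {T | ∃ X : CDual k A, EDer X ∧ dact k A V X = T}
      zero_mem' := ⟨0, EDer.zero, map_zero _⟩
      add_mem' := by
        rintro _ _ ⟨X, hX, rfl⟩ ⟨Y, hY, rfl⟩
        exact ⟨X + Y, hX.add hY, map_add _ _ _⟩
      smul_mem' := by
        rintro c _ ⟨X, hX, rfl⟩
        exact ⟨c • X, hX.smul c, map_smul _ _ _⟩
      lie_mem' := by
        rintro _ _ ⟨X, hX, rfl⟩ ⟨Y, hY, rfl⟩
        exact ⟨X * Y - Y * X, hX.bracket hY, by rw [map_sub, map_mul, map_mul]; rfl⟩ }
  haveI hn : LieModule.IsNilpotent L V := by
    rw [LieModule.isNilpotent_iff_forall' (R := k)]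
    rintro ⟨_, X, hX, rfl⟩
    exact (hL X hX).map (dact k A V)
  haveI := LieModule.nontrivial_max_triv_of_isNilpotent k L V
  obtain ⟨w, hw⟩ := exists_ne (0 : LieModule.maxTrivSubmodule k L V)
  refine ⟨w, fun h => hw (Subtype.ext h), fun X hX => ?_⟩
  exact (LieModule.mem_maxTrivSubmodule (R := k) (L := L) (M := V) (w : V)).mp w.2 ⟨dact k A V X, X, hX, rfl⟩

variable (p : ℕ) [hp : Fact p.Prime] [CharP k p]

/-- On a finite group of height one an element killed by all invariant derivations is constant. -/
theorem heightOne_const {H : Type u} [CommRing H] [HopfAlgebra k H] [Module.Finite k H]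
    (h1 : ∀ x ∈ FinHopf.aug k H, x ^ p = 0) {c : H}
    (hc : ∀ δ : CDual k H, EDer δ → cR δ.ofConv (comul (R := k) c) = 0) :
    c = algebraMap k H (counit (R := k) c) := by
  classical
  have hA : FinHopf.IsInfinitesimal k H := fun x hx => ⟨p, h1 x hx⟩
  -- every derivation kills `c`
  have hder : ∀ D : Derivation k H H, D c = 0 := by
    intro D
    let S : WithConv (H →ₗ[k] H) := WithConv.toConv (HopfAlgebra.antipode k)
    let D' : WithConv (H →ₗ[k] H) := WithConv.toConv D.toLinearMap
    have hSid : WithConv.toConv (LinearMap.id : H →ₗ[k] H) * S = 1 := by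
      apply WithConv.ofConv_injective
      ext a
      simp only [LinearMap.convMul_def, LinearMap.convOne_def, WithConv.ofConv_toConv, LinearMap.comp_apply]
      show LinearMap.mul' k H (TensorProduct.map LinearMap.id (HopfAlgebra.antipode k) (comul (R := k) a)) = _
      rw [← LinearMap.lTensor_def, HopfAlgebra.mul_antipode_lTensor_comul_apply]
      rfl
    let δ' : H →ₗ[k] H := (S * D').ofConv
    have hδ' : ∀ a b : H, δ' (a * b) = algebraMap k H (counit (R := k) a) * δ' b +
        δ' a * algebraMap k H (counit (R := k) b) := by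
      intro a b
      simp only [δ', S, D', LinearMap.convMul_def, WithConv.ofConv_toConv, LinearMap.comp_apply]
      have key : ∀ s t : H ⊗[k] H,
          LinearMap.mul' k H (TensorProduct.map (HopfAlgebra.antipode k) D.toLinearMap (s * t)) =
            LinearMap.mul' k H ((HopfAlgebra.antipode k).rTensor H s) *
              LinearMap.mul' k H (TensorProduct.map (HopfAlgebra.antipode k) D.toLinearMap t) +
            LinearMap.mul' k H (TensorProduct.map (HopfAlgebra.antipode k) D.toLinearMap s) *
              LinearMap.mul' k H ((HopfAlgebra.antipode k).rTensor H t) := by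
        intro s t
        induction s using TensorProduct.induction_on with
        | zero => simp
        | add x y hx hy => simp only [add_mul, map_add, hx, hy]; ring
        | tmul x x' =>
          induction t using TensorProduct.induction_on with
          | zero => simp
          | add u v hu hv => simp only [mul_add, map_add, hu, hv]; ring
          | tmul y y' =>
            simp only [Algebra.TensorProduct.tmul_mul_tmul, TensorProduct.map_tmul, LinearMap.mul'_apply,
              LinearMap.rTensor_tmul, HopfAlgebra.antipode_mul_distrib, Derivation.coeFn_coe,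
              Derivation.leibniz, smul_eq_mul]
            ring
      rw [Bialgebra.comul_mul, key, HopfAlgebra.mul_antipode_rTensor_comul_apply,
        HopfAlgebra.mul_antipode_rTensor_comul_apply]
    have hzero : TensorProduct.map LinearMap.id δ' (comul (R := k) c) = 0 := by
      refine tensor_eq_zero_of_cR fun χ => ?_
      have hX : EDer (WithConv.toConv (χ ∘ₗ δ') : CDual k H) := by
        intro a b
        simp only [WithConv.ofConv_toConv, LinearMap.comp_apply]
        rw [hδ', map_add, ← Algebra.smul_def, mul_comm (δ' a), ← Algebra.smul_def, map_smul, map_smul,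
          smul_eq_mul, smul_eq_mul]
        ring
      rw [← hc _ hX]
      generalize comul (R := k) c = t
      induction t using TensorProduct.induction_on with
      | zero => simp
      | tmul x y => simp
      | add x y hx hy => simp only [map_add, hx, hy]
    have h2 : (WithConv.toConv (LinearMap.id : H →ₗ[k] H) * (S * D')).ofConv c = 0 := by
      rw [LinearMap.convMul_def]
      show LinearMap.mul' k H (TensorProduct.map LinearMap.id δ' (comul (R := k) c)) = 0
      rw [hzero, map_zero]
    rw [← mul_assoc, hSid, one_mul] at h2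
    exact h2
  obtain ⟨d, x, D, hx, hD, hgen, hfin⟩ := FinHopf.exists_coords_finrank_eq_pow p h1
  let Φ : MvPolynomial (Fin d) k →ₐ[k] H := MvPolynomial.aeval x
  have hDΦ : ∀ j f, D j (Φ f) = Φ (MvPolynomial.pderiv j f) := by
    intro j f
    induction f using MvPolynomial.induction_on with
    | C a => simp [Φ]
    | add f g hf hg => simp [hf, hg]
    | mul_X f i hf =>
      rw [map_mul, Derivation.leibniz, hf, Derivation.leibniz, smul_eq_mul, smul_eq_mul, map_add]
      simp [Φ, hD, MvPolynomial.pderiv_X, Pi.single_apply, eq_comm, apply_ite]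
  have hindep : ∀ n (f : MvPolynomial (Fin d) k), Φ f = 0 → ∀ α : Fin d →₀ ℕ,
      (∀ i, α i < p) → ∑ i, α i = n → f.coeff α = 0 := by
    intro n
    induction n with
    | zero =>
      intro f hf α _ hα
      obtain rfl : α = 0 := by
        ext i; exact Finset.sum_eq_zero_iff.mp hα i (Finset.mem_univ _)
      have := congr(counit (R := k) $hf)
      rw [map_zero] at this
      rw [← MvPolynomial.constantCoeff_eq, ← this]
      have hcc : (Bialgebra.counitAlgHom k H).comp Φ = MvPolynomial.aeval (0 : Fin d → k) := by
        refine MvPolynomial.algHom_ext fun i => ?_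
        simp [Φ, FinHopf.mem_aug.mp (hx i)]
      rw [show counit (R := k) (Φ f) = (Bialgebra.counitAlgHom k H).comp Φ f from rfl, hcc,
        MvPolynomial.aeval_zero]
      simp
    | succ n ih =>
      intro f hf α hlt hα
      obtain ⟨j, hj⟩ : ∃ j, α j ≠ 0 := by
        by_contra! h
        simp [h] at hα
      have hle : Finsupp.single j 1 ≤ α := by
        rw [Finsupp.single_le_iff]; omega
      have hsum : ∑ i, (α - Finsupp.single j 1 : Fin d →₀ ℕ) i + 1 = ∑ i, α i := by
        conv_rhs => rw [← tsub_add_cancel_of_le hle]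
        simp [Finset.sum_add_distrib]
      have h := ih (MvPolynomial.pderiv j f) (by rw [← hDΦ, hf, map_zero]) (α - Finsupp.single j 1)
        (fun i => lt_of_le_of_lt (by simp) (hlt i)) (by omega)
      rw [MvPolynomial.coeff_pderiv, tsub_add_cancel_of_le hle] at h
      refine (mul_eq_zero.mp h).resolve_right ?_
      have hh : (α - Finsupp.single j 1 : Fin d →₀ ℕ) j + 1 = α j := by simp; omega
      rw [← Nat.cast_add_one, hh, CharP.cast_eq_zero_iff k p]
      exact fun hdvd => hj (Nat.eq_zero_of_dvd_of_lt hdvd (hlt j))
  let mon : (Fin d → Fin p) → (Fin d →₀ ℕ) := fun α => Finsupp.equivFunOnFinite.symm fun i => (α i : ℕ)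
  let L : ((Fin d → Fin p) → k) →ₗ[k] H := Fintype.linearCombination k fun α => Φ (MvPolynomial.monomial (mon α) 1)
  have hLapp : ∀ c, L c = Φ (∑ α, MvPolynomial.monomial (mon α) (c α)) := by
    intro c
    rw [map_sum]
    show ∑ α, c α • Φ _ = _
    refine Finset.sum_congr rfl fun α _ => ?_
    rw [← map_smul, MvPolynomial.smul_monomial, smul_eq_mul, mul_one]
  have hcoeff : ∀ (c : (Fin d → Fin p) → k) (β : Fin d → Fin p),
      (∑ α, MvPolynomial.monomial (mon α) (c α)).coeff (mon β) = c β := by
    intro c β
    rw [MvPolynomial.coeff_sum, Finset.sum_eq_single β]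
    · simp
    · intro α _ hα
      rw [MvPolynomial.coeff_monomial, if_neg fun h => hα (funext fun i => Fin.ext (DFunLike.congr_fun h i))]
    · simp
  have hLi : Function.Injective L := by
    rw [injective_iff_map_eq_zero]
    intro c hc
    funext β
    rw [← hcoeff c β]
    exact hindep _ _ ((hLapp c).symm.trans hc) _ (fun i => (β i).2) rfl
  have hLs : Function.Surjective L := (LinearMap.injective_iff_surjective_of_finrank_eq_finrank (by
    rw [hfin, Module.finrank_pi]; simp)).1 hLi
  obtain ⟨q, hq⟩ := hLs c
  have hq0 : ∀ β : Fin d → Fin p, (∃ j, (β j : ℕ) ≠ 0) → q β = 0 := by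
    rintro β ⟨j, hj⟩
    have h0 : Φ (MvPolynomial.pderiv j (∑ α, MvPolynomial.monomial (mon α) (q α))) = 0 := by
      rw [← hDΦ, ← hLapp, hq]
      exact hder _
    have hle : Finsupp.single j 1 ≤ mon β := by
      rw [Finsupp.single_le_iff]; simp [mon]; omega
    have h := hindep _ _ h0 (mon β - Finsupp.single j 1) (fun i => lt_of_le_of_lt (by simp [mon]) (β i).2) rfl
    rw [MvPolynomial.coeff_pderiv, tsub_add_cancel_of_le hle, hcoeff] at h
    refine (mul_eq_zero.mp h).resolve_right ?_
    have hh : (mon β - Finsupp.single j 1 : Fin d →₀ ℕ) j + 1 = (β j : ℕ) := by simp [mon]; omega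
    rw [← Nat.cast_add_one, hh, CharP.cast_eq_zero_iff k p]
    exact fun hdvd => hj (Nat.eq_zero_of_dvd_of_lt hdvd (β j).2)
  have hcon : c = algebraMap k H (q fun _ => ⟨0, hp.out.pos⟩) := by
    rw [← hq, hLapp, Finset.sum_eq_single (fun _ => ⟨0, hp.out.pos⟩)]
    · rw [show mon (fun _ => ⟨0, hp.out.pos⟩) = 0 from Finsupp.ext fun i => rfl]
      simp [Φ]
    · intro β _ hβ
      rw [hq0 β ?_, map_zero]
      by_contra h
      push Not at h
      exact hβ (funext fun i => Fin.ext (h i))
    · simp
  conv_rhs => rw [hcon, Bialgebra.counit_algebraMap]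
  exact hcon

variable [Algebra.FiniteType k A]

/-- Coefficients of vectors killed by the Lie algebra lie in the subalgebra of `p`-th powers. -/
theorem coeff_mem_frobSub {V : Type u} [AddCommGroup V] [Module k V] [HopfRep.Comod k A V] {v : V}
    (hv : ∀ X : CDual k A, EDer X → dact k A V X v = 0) (φ : V →ₗ[k] k) :
    cL φ (HopfRep.Comod.coact (k := k) (A := A) v) ∈ FinHopf.frobSub k A p := by
  set c := cL φ (HopfRep.Comod.coact (k := k) (A := A) v) with hcdef
  let I := FinHopf.frobIdeal k A p
  haveI : CharP A p := FinHopf.charP_of_algHom (Bialgebra.counitAlgHom k A) p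
  haveI : Algebra.IsIntegral k (A ⧸ I) := ⟨fun h => by
    refine IsIntegral.of_pow hp.out.pos ?_
    rw [FinHopf.quot_pow_p p h]
    exact isIntegral_algebraMap⟩
  haveI : Module.Finite k (A ⧸ I) := Algebra.IsIntegral.finite
  let mk : A →ₐc[k] A ⧸ I := Bialgebra.Quotient.mkBialgHom I
  have h1 : ∀ x ∈ FinHopf.aug k (A ⧸ I), x ^ p = 0 := by
    intro x hx
    rw [FinHopf.quot_pow_p p x]
    obtain ⟨a, rfl⟩ := Ideal.Quotient.mk_surjective x
    rw [FinHopf.frobCounit_mk, show counit (R := k) a = 0 from
      (CoalgHomClass.counit_comp_apply mk a).symm.trans (FinHopf.mem_aug.1 hx), zero_pow hp.out.ne_zero, map_zero]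
  have hcX : ∀ X : CDual k A, EDer X → cR X.ofConv (comul (R := k) c) = 0 := fun X hX => by
    show dact k A A X c = 0
    rw [hcdef, coeff_smul, hv X hX, map_zero, map_zero]
  have hmk : ∀ g : A →ₗ[k] k, mk (cL g (comul (R := k) c)) = algebraMap k (A ⧸ I) (g c) := by
    intro g
    have hzero : ∀ δ : CDual k (A ⧸ I), EDer δ → cR δ.ofConv (comul (R := k) (mk (cL g (comul (R := k) c)))) = 0 := by
      intro δ hδ
      let X : CDual k A := WithConv.toConv (δ.ofConv ∘ₗ (mk : A →ₐ[k] A ⧸ I).toLinearMap)
      have hX : EDer X := fun a b => by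
        simp only [X, WithConv.ofConv_toConv, LinearMap.comp_apply, AlgHom.toLinearMap_apply, map_mul]
        rw [hδ]
        rfl
      have h : ∀ t : A ⊗[k] A, cR δ.ofConv (TensorProduct.map (mk : A →ₐ[k] A ⧸ I).toLinearMap
          (mk : A →ₐ[k] A ⧸ I).toLinearMap t) = mk (cR X.ofConv t) := by
        intro t
        induction t using TensorProduct.induction_on with
        | zero => simp
        | tmul x y => simp [X]
        | add x y hx hy => simp only [map_add, hx, hy]
      rw [HopfRange.comul_map, h]
      have : cR X.ofConv (comul (R := k) (cL g (comul (R := k) c))) = 0 := by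
        show dact k A A X (cL g (HopfRep.Comod.coact (k := k) (A := A) c)) = 0
        rw [coeff_smul]
        show cL g (comul (R := k) (cR X.ofConv (comul (R := k) c))) = 0
        rw [hcX X hX, map_zero, map_zero]
      rw [this, map_zero]
    rw [heightOne_const p h1 hzero]
    congr 1
    rw [CoalgHomClass.counit_comp_apply]
    show counit (R := k) (cL g (comul (R := k) c)) = g c
    rw [cR_cL]
    congr 1
    show TensorProduct.rid k A ((counit (R := k) (A := A)).lTensor A (comul (R := k) c)) = c
    rw [Coalgebra.lTensor_counit_comul]; simp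
  have hI : Algebra.TensorProduct.map (AlgHom.id k A) (Ideal.Quotient.mkₐ k I) (comul (R := k) c) =
      c ⊗ₜ[k] (1 : A ⧸ I) := by
    refine tensor_eq_of_cL fun g => ?_
    have h : ∀ t : A ⊗[k] A, cL g (Algebra.TensorProduct.map (AlgHom.id k A) (Ideal.Quotient.mkₐ k I) t) =
        mk (cL g t) := by
      intro t
      induction t using TensorProduct.induction_on with
      | zero => simp
      | tmul x y => simp; rfl
      | add x y hx hy => simp only [map_add, hx, hy]
    rw [h, hmk, cL_tmul, Algebra.algebraMap_eq_smul_one]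
  have hP : FlatSub.IsSubHopf k (FinHopf.frobSub k A p) := ⟨fun b hb => by
    obtain ⟨t, ht⟩ := FinHopf.frobSub_comul p b hb
    exact ⟨t, ht⟩, FinHopf.frobSub_antipode p⟩
  have hIP : I ≤ DiagUnip.aug (FinHopf.frobSub k A p) := Ideal.span_le.2 fun _ ⟨x, hx, hxp⟩ =>
    Ideal.subset_span ⟨hxp ▸ FinHopf.pow_mem_frobSub p x, by
      subst hxp
      show Bialgebra.counitAlgHom k A (x ^ p) = 0
      rw [map_pow, show Bialgebra.counitAlgHom k A x = 0 from hx, zero_pow hp.out.ne_zero]⟩
  refine DiagUnip.mem_of_dbar hP ?_
  have h2 := congrArg (Algebra.TensorProduct.map (AlgHom.id k A) (Ideal.Quotient.factorₐ k hIP)) hI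
  rw [Algebra.TensorProduct.map_tmul, map_one] at h2
  refine Eq.trans ?_ h2
  show Algebra.TensorProduct.map (AlgHom.id k A) (DiagUnip.prj (FinHopf.frobSub k A p)) (comul (R := k) c) = _
  generalize comul (R := k) c = t
  induction t using TensorProduct.induction_on with
  | zero => simp
  | tmul x y => rfl
  | add x y hx hy => simp only [map_add, hx, hy]

/-- For a perfect field the sub-Hopf algebra of `p`-th powers consists of `p`-th powers. -/
theorem exists_root_of_mem_frobSub [PerfectField k] {x : A} (hx : x ∈ FinHopf.frobSub k A p) :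
    ∃ a : A, a ^ p = x := by
  haveI : CharP A p := FinHopf.charP_of_algHom (Bialgebra.counitAlgHom k A) p
  haveI := PerfectField.toPerfectRing (K := k) p
  let R : Subalgebra k A :=
    { (frobenius A p).range with
      algebraMap_mem' := fun r => by
        obtain ⟨s, hs⟩ := surjective_frobenius k p r
        exact ⟨algebraMap k A s, by rw [frobenius_def, ← map_pow, ← hs, frobenius_def]⟩ }
  have hPR : FinHopf.frobSub k A p ≤ R := Algebra.adjoin_le (by rintro _ ⟨x, rfl⟩; exact ⟨x, frobenius_def ..⟩)
  obtain ⟨v, hv⟩ := hPR hx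
  exact ⟨v, hv⟩

end Groth.Agent.UnipLie
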