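import Groth.Agent.UnipConil.Points
import Mathlib.Algebra.CharP.Algebra
import Mathlib.Algebra.CharP.Lemmas
import Mathlib.Algebra.Lie.OfAssociative
import Mathlib.RingTheory.FiniteType

/-!
# The powers of `ε`-derivations in the dual algebra
-/

set_option autoImplicit false
set_option linter.style.haveILetI false
set_option linter.unusedSectionVars false
set_option backward.isDefEq.respectTransparency false

universe u v

open TensorProduct Coalgebra
open Groth.Agent.Comod
open scoped Groth.Agent.Comod

noncomputable section

namespace Groth.Agent.UnipLie

variable {k : Type u} [Field k] {A : Type v} [CommRing A] [Bialgebra k A]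

/-- A functional is an `ε`-derivation. -/
def EDer (X : CDual k A) : Prop :=
  ∀ a b, X.ofConv (a * b) = counit (R := k) a * X.ofConv b + X.ofConv a * counit (R := k) b

theorem EDer.one {X : CDual k A} (h : EDer X) : X.ofConv 1 = 0 := by
  have := h 1 1
  rwa [mul_one, Bialgebra.counit_one, one_mul, mul_one, left_eq_add] at this

theorem mul_apply' {C : Type v} [AddCommGroup C] [Module k C] [Coalgebra k C] (f g : CDual k C) (c : C) :
    (f * g).ofConv c = LinearMap.mul' k k (TensorProduct.map f.ofConv g.ofConv (comul (R := k) c)) := by
  rw [LinearMap.convMul_def]; rfl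

theorem mul_tmul_apply {f g : CDual k (A ⊗[k] A)} (a b : A) :
    (f * g).ofConv (a ⊗ₜ[k] b) = LinearMap.mul' k k (TensorProduct.map f.ofConv g.ofConv
      (TensorProduct.AlgebraTensorModule.tensorTensorTensorComm k k k k A A A A
        (comul (R := k) a ⊗ₜ[k] comul (R := k) b))) := by
  rw [mul_apply', TensorProduct.comul_tmul]

variable (k A) in
/-- Composition with the multiplication. -/
def mulDual : CDual k A →ₐ[k] CDual k (A ⊗[k] A) :=
  AlgHom.ofLinearMap
    { toFun := fun f => WithConv.toConv (f.ofConv ∘ₗ LinearMap.mul' k A)
      map_add' := fun f g => by ext; simp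
      map_smul' := fun c f => by ext; simp }
    (by ext a b; simp [LinearMap.convOne_def, TensorProduct.counit_tmul, mul_comm])
    (fun f g => by
      apply WithConv.ofConv_injective
      refine TensorProduct.ext' fun a b => ?_
      simp only [LinearMap.coe_mk, AddHom.coe_mk, WithConv.ofConv_toConv, LinearMap.comp_apply,
        LinearMap.mul'_apply]
      rw [mul_tmul_apply, mul_apply', Bialgebra.comul_mul]
      generalize comul (R := k) a = s
      generalize comul (R := k) b = t
      induction s using TensorProduct.induction_on with
      | zero => simp
      | add x y hx hy => simp only [add_mul, TensorProduct.add_tmul, map_add, hx, hy]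
      | tmul x x' =>
        induction t using TensorProduct.induction_on with
        | zero => simp
        | add u v hu hv => simp only [mul_add, TensorProduct.tmul_add, map_add, hu, hv]
        | tmul y y' => simp)

variable (k A) in
/-- A functional in the first variable. -/
def leftDual : CDual k A →ₐ[k] CDual k (A ⊗[k] A) :=
  AlgHom.ofLinearMap
    { toFun := fun f => WithConv.toConv (LinearMap.mul' k k ∘ₗ TensorProduct.map f.ofConv (counit (R := k)))
      map_add' := fun f g => by
        apply WithConv.ofConv_injective; refine TensorProduct.ext' fun a b => ?_; simp [add_mul]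
      map_smul' := fun c f => by
        apply WithConv.ofConv_injective; refine TensorProduct.ext' fun a b => ?_; simp [mul_assoc] }
    (by ext a b; simp [LinearMap.convOne_def, TensorProduct.counit_tmul, mul_comm])
    (fun f g => by
      apply WithConv.ofConv_injective
      refine TensorProduct.ext' fun a b => ?_
      simp only [LinearMap.coe_mk, AddHom.coe_mk, WithConv.ofConv_toConv, LinearMap.comp_apply,
        TensorProduct.map_tmul, LinearMap.mul'_apply]
      rw [mul_tmul_apply, mul_apply']
      conv_lhs => arg 2; rw [← pair_counit (k := k) b]
      generalize comul (R := k) a = s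
      generalize comul (R := k) b = t
      induction s using TensorProduct.induction_on with
      | zero => simp
      | add x y hx hy => simp only [add_mul, TensorProduct.add_tmul, map_add, hx, hy]
      | tmul x x' =>
        induction t using TensorProduct.induction_on with
        | zero => simp
        | add u v hu hv => simp only [mul_add, TensorProduct.tmul_add, map_add, hu, hv]
        | tmul y y' => simp; ring)
where
  pair_counit {k : Type u} [Field k] {A : Type v} [CommRing A] [Bialgebra k A] (b : A) :
      LinearMap.mul' k k (TensorProduct.map (counit (R := k)) (counit (R := k)) (comul (R := k) b)) = counit b := by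
    rw [← mul_apply' (WithConv.toConv (counit (R := k) (A := A))) (WithConv.toConv (counit (R := k))) b]
    rw [show WithConv.toConv (counit (R := k) (A := A)) = 1 by ext; simp [LinearMap.convOne_def], one_mul]
    simp [LinearMap.convOne_def]

variable (k A) in
/-- A functional in the second variable. -/
def rightDual : CDual k A →ₐ[k] CDual k (A ⊗[k] A) :=
  AlgHom.ofLinearMap
    { toFun := fun f => WithConv.toConv (LinearMap.mul' k k ∘ₗ TensorProduct.map (counit (R := k)) f.ofConv)
      map_add' := fun f g => by
        apply WithConv.ofConv_injective; refine TensorProduct.ext' fun a b => ?_; simp [mul_add]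
      map_smul' := fun c f => by
        apply WithConv.ofConv_injective; refine TensorProduct.ext' fun a b => ?_; simp; ring }
    (by ext a b; simp [LinearMap.convOne_def, TensorProduct.counit_tmul, mul_comm])
    (fun f g => by
      apply WithConv.ofConv_injective
      refine TensorProduct.ext' fun a b => ?_
      simp only [LinearMap.coe_mk, AddHom.coe_mk, WithConv.ofConv_toConv, LinearMap.comp_apply,
        TensorProduct.map_tmul, LinearMap.mul'_apply]
      rw [mul_tmul_apply, mul_apply']
      conv_lhs => arg 1; rw [← leftDual.pair_counit (k := k) a]
      generalize comul (R := k) a = s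
      generalize comul (R := k) b = t
      induction s using TensorProduct.induction_on with
      | zero => simp
      | add x y hx hy => simp only [add_mul, TensorProduct.add_tmul, map_add, hx, hy]
      | tmul x x' =>
        induction t using TensorProduct.induction_on with
        | zero => simp
        | add u v hu hv => simp only [mul_add, TensorProduct.tmul_add, map_add, hu, hv]
        | tmul y y' => simp; ring)

theorem mulDual_apply (f : CDual k A) (a b : A) : (mulDual k A f).ofConv (a ⊗ₜ[k] b) = f.ofConv (a * b) := by
  simp [mulDual]

theorem leftDual_apply (f : CDual k A) (a b : A) :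
    (leftDual k A f).ofConv (a ⊗ₜ[k] b) = f.ofConv a * counit (R := k) b := by
  simp [leftDual]

theorem rightDual_apply (f : CDual k A) (a b : A) :
    (rightDual k A f).ofConv (a ⊗ₜ[k] b) = counit (R := k) a * f.ofConv b := by
  simp [rightDual]

theorem eDer_iff {X : CDual k A} : EDer X ↔ mulDual k A X = leftDual k A X + rightDual k A X := by
  constructor
  · intro h
    apply WithConv.ofConv_injective
    refine TensorProduct.ext' fun a b => ?_
    rw [WithConv.ofConv_add, LinearMap.add_apply, mulDual_apply, leftDual_apply, rightDual_apply, h, add_comm]
  · intro h a b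
    rw [← mulDual_apply X a b, h, WithConv.ofConv_add, LinearMap.add_apply, leftDual_apply, rightDual_apply,
      add_comm]

theorem commute_left_right (f g : CDual k A) : Commute (leftDual k A f) (rightDual k A g) := by
  apply WithConv.ofConv_injective
  refine TensorProduct.ext' fun a b => ?_
  rw [mul_tmul_apply, mul_tmul_apply]
  generalize hs : comul (R := k) a = s
  generalize ht : comul (R := k) b = t
  have h1 : ∀ s t : A ⊗[k] A,
      LinearMap.mul' k k (TensorProduct.map (leftDual k A f).ofConv (rightDual k A g).ofConv
        (TensorProduct.AlgebraTensorModule.tensorTensorTensorComm k k k k A A A A (s ⊗ₜ[k] t))) =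
      f.ofConv (cR (counit (R := k)) s) * g.ofConv (cL (counit (R := k)) t) := by
    intro s t
    induction s using TensorProduct.induction_on with
    | zero => simp
    | add x y hx hy => simp only [TensorProduct.add_tmul, map_add, hx, hy, add_mul]
    | tmul x x' =>
      induction t using TensorProduct.induction_on with
      | zero => simp
      | add u v hu hv => simp only [TensorProduct.tmul_add, map_add, hu, hv, mul_add]
      | tmul y y' => simp [leftDual_apply, rightDual_apply]; ring
  have h2 : ∀ s t : A ⊗[k] A,
      LinearMap.mul' k k (TensorProduct.map (rightDual k A g).ofConv (leftDual k A f).ofConv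
        (TensorProduct.AlgebraTensorModule.tensorTensorTensorComm k k k k A A A A (s ⊗ₜ[k] t))) =
      f.ofConv (cL (counit (R := k)) s) * g.ofConv (cR (counit (R := k)) t) := by
    intro s t
    induction s using TensorProduct.induction_on with
    | zero => simp
    | add x y hx hy => simp only [TensorProduct.add_tmul, map_add, hx, hy, add_mul]
    | tmul x x' =>
      induction t using TensorProduct.induction_on with
      | zero => simp
      | add u v hu hv => simp only [TensorProduct.tmul_add, map_add, hu, hv, mul_add]
      | tmul y y' => simp [leftDual_apply, rightDual_apply]; ring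
  have eR : ∀ x : A, cR (counit (R := k)) (comul (R := k) x) = x := fun x => by
    show TensorProduct.rid k A ((counit (R := k) (A := A)).lTensor A (comul (R := k) x)) = x
    rw [Coalgebra.lTensor_counit_comul]; simp
  have eL : ∀ x : A, cL (counit (R := k)) (comul (R := k) x) = x := fun x => by
    show TensorProduct.lid k A ((counit (R := k) (A := A)).rTensor A (comul (R := k) x)) = x
    rw [Coalgebra.rTensor_counit_comul]; simp
  rw [h1, h2, ← hs, ← ht, eR, eR, eL, eL]

theorem EDer.bracket {X Y : CDual k A} (hX : EDer X) (hY : EDer Y) : EDer (X * Y - Y * X) := by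
  rw [eDer_iff] at hX hY ⊢
  simp only [map_sub, map_mul, hX, hY, add_mul, mul_add, (commute_left_right Y X).symm.eq,
    (commute_left_right X Y).symm.eq]
  abel

theorem EDer.add {X Y : CDual k A} (hX : EDer X) (hY : EDer Y) : EDer (X + Y) := by
  rw [eDer_iff] at hX hY ⊢
  simp only [map_add, hX, hY]; abel

theorem EDer.smul {X : CDual k A} (hX : EDer X) (c : k) : EDer (c • X) := by
  rw [eDer_iff] at hX ⊢
  simp only [map_smul, hX, smul_add]

theorem EDer.zero : EDer (0 : CDual k A) := eDer_iff.mpr (by simp)

theorem algebraMap_injective : Function.Injective (algebraMap k (CDual k A)) := by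
  intro c d h
  simpa [Algebra.algebraMap_eq_smul_one, LinearMap.convOne_def] using
    congrArg (fun f : CDual k A => f.ofConv 1) h

theorem EDer.pow_char (p : ℕ) [Fact p.Prime] [CharP k p] {X : CDual k A} (hX : EDer X) (n : ℕ) :
    EDer (X ^ p ^ n) := by
  haveI : CharP (CDual k (A ⊗[k] A)) p :=
    charP_of_injective_algebraMap (algebraMap_injective (k := k) (A := A ⊗[k] A)) p
  rw [eDer_iff] at hX ⊢
  rw [map_pow, map_pow, map_pow, hX, add_pow_char_pow_of_commute p n (commute_left_right X X)]

/-- An `ε`-derivation killing generators vanishes. -/
theorem EDer.eq_zero {X : CDual k A} (hX : EDer X) {s : Set A} (hs : Algebra.adjoin k s = ⊤)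
    (h0 : ∀ x ∈ s, X.ofConv x = 0) : X = 0 := by
  refine WithConv.ofConv_injective (LinearMap.ext fun a => ?_)
  have ha : a ∈ Algebra.adjoin k s := hs ▸ Algebra.mem_top
  induction ha using Algebra.adjoin_induction with
  | mem x hx => exact h0 x hx
  | algebraMap r => simp [Algebra.algebraMap_eq_smul_one, hX.one]
  | add x y _ _ hx hy => simp [map_add, hx, hy]
  | mul x y _ _ hx hy =>
    rw [WithConv.ofConv_zero, LinearMap.zero_apply] at hx hy ⊢
    rw [hX, hx, hy, mul_zero, zero_mul, add_zero]

theorem pow_eq_zero_of_isConil (p : ℕ) [hp : Fact p.Prime] [CharP k p] [Algebra.FiniteType k A]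
    (h : UnipConil.IsConil k A) {X : CDual k A} (hX : EDer X) : ∃ n, 0 < n ∧ X ^ p ^ n = 0 := by
  classical
  obtain ⟨s, hs⟩ := (inferInstance : Algebra.FiniteType k A).out
  choose m hm using h
  obtain ⟨N, hN⟩ : ∃ N, ∀ x ∈ s, x ∈ UnipConil.filt k A N :=
    ⟨s.sup m, fun x hx => UnipConil.filt_mono (Finset.le_sup hx) (hm x)⟩
  refine ⟨N + 1, Nat.succ_pos _, (hX.pow_char p _).eq_zero hs fun x hx => ?_⟩
  exact UnipConil.kills_pow_of_le hX.one (Nat.lt_pow_self hp.out.one_lt).le x (hN x hx)

end Groth.Agent.UnipLie
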