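import Groth.Agent.UnipLie.HeightOne
import Groth.Agent.S7975
import Groth.Agent.FinHopf.Sub
import Mathlib.RingTheory.Filtration
import Mathlib.RingTheory.Jacobson.Ring
import Mathlib.FieldTheory.IsAlgClosed.Basic

/-!
# Groups with nilpotent Lie algebra and unipotent points are unipotent
-/

set_option autoImplicit false
set_option linter.style.haveILetI false
set_option linter.unusedSectionVars false
set_option backward.isDefEq.respectTransparency false

universe u

open TensorProduct Coalgebra
open Groth.Agent.Comod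
open scoped Groth.Agent.Comod

noncomputable section

namespace Groth.Agent.UnipLie

variable {k : Type u} [Field k] [PerfectField k] (p : ℕ) [hp : Fact p.Prime] [hch : CharP k p]
variable {A : Type u} [CommRing A] [HopfAlgebra k A]

/-- The `p`-th root on the field. -/
def root : k →+* k :=
  haveI := PerfectField.toPerfectRing (K := k) p
  (frobeniusEquiv k p).symm.toRingHom

theorem root_pow (x : k) : root p x ^ p = x := by
  haveI := PerfectField.toPerfectRing (K := k) p
  show (frobeniusEquiv k p).symm x ^ p = x
  rw [← frobenius_def, ← frobeniusEquiv_apply, RingEquiv.apply_symm_apply]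

theorem pow_root (x : k) : root p (x ^ p) = x := by
  haveI := PerfectField.toPerfectRing (K := k) p
  show (frobeniusEquiv k p).symm (x ^ p) = x
  rw [← frobenius_def, ← frobeniusEquiv_apply, RingEquiv.symm_apply_apply]

/-- Functionals seen through the Frobenius. -/
def twist (f : CDual k A) : CDual k A :=
  WithConv.toConv
    { toFun := fun a => root p (f.ofConv (a ^ p))
      map_add' := fun a b => by
        haveI : CharP A p := FinHopf.charP_of_algHom (Bialgebra.counitAlgHom k A) p
        rw [add_pow_char, map_add, map_add]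
      map_smul' := fun c a => by
        rw [smul_pow, map_smul, smul_eq_mul, map_mul, pow_root]
        rfl }

theorem twist_apply (f : CDual k A) (a : A) : (twist p f).ofConv a = root p (f.ofConv (a ^ p)) := rfl

theorem twist_mul (f g : CDual k A) : twist p (f * g) = twist p f * twist p g := by
  haveI : CharP (A ⊗[k] A) p := FinHopf.charP_of_algHom (Bialgebra.counitAlgHom k (A ⊗[k] A)) p
  apply WithConv.ofConv_injective
  refine LinearMap.ext fun a => ?_
  rw [twist_apply, mul_apply', mul_apply',
    show comul (R := k) (a ^ p) = comul (R := k) a ^ p from map_pow (Bialgebra.comulAlgHom k A) a p]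
  generalize comul (R := k) a = t
  induction t using TensorProduct.induction_on with
  | zero => simp [zero_pow hp.out.ne_zero]
  | tmul x y => simp [Algebra.TensorProduct.tmul_pow, twist_apply]
  | add x y hx hy => rw [add_pow_char, map_add, map_add, map_add, hx, hy, ← map_add, ← map_add]

theorem twist_one : twist p (1 : CDual k A) = 1 := by
  apply WithConv.ofConv_injective
  refine LinearMap.ext fun a => ?_
  rw [twist_apply, UnipConil.one_apply, UnipConil.one_apply,
    show counit (R := k) (a ^ p) = counit (R := k) a ^ p from map_pow (Bialgebra.counitAlgHom k A) a p,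
    pow_root]

theorem twist_pow (f : CDual k A) : ∀ n : ℕ, twist p (f ^ n) = twist p f ^ n
  | 0 => by rw [pow_zero, pow_zero, twist_one]
  | n + 1 => by rw [pow_succ, pow_succ, twist_mul, twist_pow f n]

variable (A) in
/-- The `p ^ r`-th powers. -/
def powSub (r : ℕ) : Submodule k A where
  carrier := {x | ∃ a : A, a ^ p ^ r = x}
  zero_mem' := ⟨0, zero_pow (pow_ne_zero _ hp.out.ne_zero)⟩
  add_mem' := by
    rintro _ _ ⟨a, rfl⟩ ⟨b, rfl⟩
    haveI : CharP A p := FinHopf.charP_of_algHom (Bialgebra.counitAlgHom k A) p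
    exact ⟨a + b, add_pow_char_pow a b p r⟩
  smul_mem' := by
    rintro c _ ⟨a, rfl⟩
    haveI := PerfectField.toPerfectRing (K := k) p
    obtain ⟨d, hd⟩ := (bijective_iterateFrobenius (R := k) (p := p) r).2 c
    exact ⟨d • a, by rw [smul_pow, ← hd, iterateFrobenius_def]⟩

theorem mem_powSub {r : ℕ} {x : A} : x ∈ powSub (k := k) p A r ↔ ∃ a : A, a ^ p ^ r = x := Iff.rfl

theorem powSub_antitone : Antitone (powSub (k := k) p A) := fun r s hrs x ⟨a, ha⟩ => by
  obtain ⟨d, rfl⟩ := Nat.exists_eq_add_of_le hrs
  exact ⟨a ^ p ^ d, by rw [← pow_mul, ← pow_add, add_comm, ha]⟩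

/-- Vectors with coefficients in the `p ^ r`-th powers exist. -/
theorem exists_pow_coeff : ∀ (r : ℕ) (A : Type u) [CommRing A] [HopfAlgebra k A] [Algebra.FiniteType k A],
    NilLie k A → ∀ (V : Type u) [AddCommGroup V] [Module k V] [HopfRep.Comod k A V] [Module.Finite k V]
      [Nontrivial V], ∃ v : V, v ≠ 0 ∧
        ∀ φ, cL φ (HopfRep.Comod.coact (k := k) (A := A) v) ∈ powSub (k := k) p A r := by
  intro r
  induction r with
  | zero =>
    intro A _ _ _ _ V _ _ _ _ _
    obtain ⟨v, hv⟩ := exists_ne (0 : V)
    exact ⟨v, hv, fun φ => ⟨_, by rw [pow_zero, pow_one]⟩⟩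
  | succ r ih =>
    intro A _ _ _ hL V _ _ cV _ _
    classical
    let P := FinHopf.frobSub k A p
    have hP : FlatSub.IsSubHopf k P := ⟨fun b hb => by
      obtain ⟨t, ht⟩ := FinHopf.frobSub_comul p b hb
      exact ⟨t, ht⟩, FinHopf.frobSub_antipode p⟩
    letI hPH : HopfAlgebra k P := FinHopf.subHopf P (FinHopf.frobSub_comul p) (FinHopf.frobSub_antipode p)
    have hΔ : ∀ b : P, FinHopf.subIncl₂ P (comul (R := k) b) = comul (R := k) (b : A) :=
      fun b => FinHopf.subIncl₂_subComul P (FinHopf.frobSub_comul p) b
    haveI : CharP A p := FinHopf.charP_of_algHom (Bialgebra.counitAlgHom k A) p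
    haveI : Algebra.FiniteType k P := by
      obtain ⟨s, hs⟩ := (inferInstance : Algebra.FiniteType k A).out
      refine (Subalgebra.fg_iff_finiteType P).mp ⟨s.image (fun x => x ^ p), ?_⟩
      refine le_antisymm (Algebra.adjoin_le fun x hx => ?_) (Algebra.adjoin_le ?_)
      · obtain ⟨y, -, rfl⟩ := Finset.mem_image.mp hx
        exact FinHopf.pow_mem_frobSub p y
      · rintro _ ⟨a, rfl⟩
        show a ^ p ∈ Algebra.adjoin k _
        have ha : a ∈ Algebra.adjoin k (s : Set A) := hs ▸ Algebra.mem_top
        induction ha using Algebra.adjoin_induction with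
        | mem x hx => exact Algebra.subset_adjoin (Finset.mem_coe.mpr (Finset.mem_image_of_mem _ hx))
        | algebraMap c => rw [← map_pow]; exact Subalgebra.algebraMap_mem _ _
        | add x y _ _ hx hy => rw [add_pow_char]; exact add_mem hx hy
        | mul x y _ _ hx hy => rw [mul_pow]; exact mul_mem hx hy
    -- the Lie algebra of `P` is nilpotent
    have hLP : NilLie k P := by
      intro X hX
      obtain ⟨X', hX'⟩ := LinearMap.exists_extend (p := Subalgebra.toSubmodule P) X.ofConv
      let Xc : CDual k A := WithConv.toConv X'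
      let res : CDual k A → CDual k P := fun f => WithConv.toConv (f.ofConv ∘ₗ P.val.toLinearMap)
      have hres : res Xc = X := WithConv.ofConv_injective hX'
      have hmul : ∀ f g, res (f * g) = res f * res g := by
        intro f g
        apply WithConv.ofConv_injective
        refine LinearMap.ext fun b => ?_
        show (f * g).ofConv (b : A) = _
        rw [mul_apply', mul_apply', ← hΔ b]
        generalize comul (R := k) b = t
        induction t using TensorProduct.induction_on with
        | zero => simp
        | tmul x y => simp [FinHopf.subIncl₂, res]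
        | add x y hx hy => simp only [map_add, hx, hy]
      have hpow : ∀ n : ℕ, res (Xc ^ n) = X ^ n := by
        intro n
        induction n with
        | zero =>
          apply WithConv.ofConv_injective
          refine LinearMap.ext fun b => ?_
          rw [pow_zero, pow_zero, UnipConil.one_apply]
          show (1 : CDual k A).ofConv (b : A) = _
          rw [UnipConil.one_apply]
          rfl
        | succ n ihn => rw [pow_succ, pow_succ, hmul, ihn, hres]
      have hE : EDer (twist p Xc) := by
        intro a b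
        rw [twist_apply, twist_apply, twist_apply, mul_pow]
        have h := hX ⟨a ^ p, FinHopf.pow_mem_frobSub p a⟩ ⟨b ^ p, FinHopf.pow_mem_frobSub p b⟩
        have hx : ∀ x : P, X.ofConv x = X' (x : A) := fun x => (LinearMap.congr_fun hX' x).symm
        simp only [hx] at h
        show root p (X' (a ^ p * b ^ p)) = _
        rw [show X' (a ^ p * b ^ p) = _ from h, map_add, map_mul, map_mul]
        rw [show (counit (R := k) (⟨a ^ p, FinHopf.pow_mem_frobSub p a⟩ : P)) = counit (R := k) (a ^ p) from rfl,
          show (counit (R := k) (⟨b ^ p, FinHopf.pow_mem_frobSub p b⟩ : P)) = counit (R := k) (b ^ p) from rfl,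
          show counit (R := k) (a ^ p) = counit (R := k) a ^ p from map_pow (Bialgebra.counitAlgHom k A) a p,
          show counit (R := k) (b ^ p) = counit (R := k) b ^ p from map_pow (Bialgebra.counitAlgHom k A) b p,
          pow_root, pow_root]
      obtain ⟨N, hN⟩ := hL _ hE
      refine ⟨N, ?_⟩
      apply WithConv.ofConv_injective
      refine LinearMap.ext fun b => ?_
      obtain ⟨a, ha⟩ := exists_root_of_mem_frobSub p b.2
      rw [← hpow]
      show (Xc ^ N).ofConv (b : A) = 0
      have h := congrArg (fun f : CDual k A => f.ofConv a) ((twist_pow p Xc N).trans hN)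
      simp only [twist_apply, WithConv.ofConv_zero, LinearMap.zero_apply] at h
      rw [← ha, ← root_pow p ((Xc ^ N).ofConv (a ^ p)), h, zero_pow hp.out.ne_zero]
    -- the vectors with coefficients in `P`
    let W : Submodule k V :=
      ⨅ φ : V →ₗ[k] k, (Subalgebra.toSubmodule P).comap (cL φ ∘ₗ HopfRep.Comod.coact (k := k) (A := A))
    have hWmem : ∀ v, v ∈ W ↔ ∀ φ, cL φ (HopfRep.Comod.coact (k := k) (A := A) v) ∈ P := fun v => by
      simp [W, Submodule.mem_iInf]
    have hW : HopfRep.IsSubcomod (k := k) (A := A) W := isSubcomod_iff.mpr fun f v hv => (hWmem _).mpr fun φ => by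
      rw [← coeff_smul]
      exact ((mem_range_map_iff (Subalgebra.toSubmodule P) (Subalgebra.toSubmodule P) _).mp
        (hP.1 _ ((hWmem v).mp hv φ))).1 f.ofConv
    obtain ⟨v₀, hv₀, hv₀k⟩ := exists_killed hL V
    haveI : Nontrivial W := ⟨⟨v₀, (hWmem v₀).mpr fun φ => coeff_mem_frobSub p hv₀k φ⟩, 0,
      fun h => hv₀ (congrArg Subtype.val h)⟩
    letI cW : HopfRep.Comod k A W := ComodSub.Comod.restr cV W hW
    let incl : P →ₐc[k] A := BialgHom.ofAlgHom P.val (AlgHom.ext fun _ => rfl) (AlgHom.ext fun b => hΔ b)
    have hco : ∀ (w : W) (φ : V →ₗ[k] k), cL (φ ∘ₗ W.subtype) (cW.coact w) =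
        cL φ (HopfRep.Comod.coact (k := k) (A := A) (w : V)) := by
      intro w φ
      have h1 := ComodSub.restr_coact_coe cV W hW w
      rw [← h1]
      generalize cW.coact w = t
      induction t using TensorProduct.induction_on with
      | zero => simp
      | tmul x y => simp
      | add x y hx hy => simp only [map_add, hx, hy]
    have hrange : ∀ w : W, cW.coact w ∈ LinearMap.range ((incl.toCoalgHom : P →ₗ[k] A).lTensor W) := by
      intro w
      have h : cW.coact w ∈ LinearMap.range ((Subalgebra.toSubmodule P).subtype.lTensor W) := by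
        rw [mem_range_lTensor_iff]
        intro χ
        obtain ⟨φ, rfl⟩ : ∃ φ : V →ₗ[k] k, φ ∘ₗ W.subtype = χ := χ.exists_extend
        rw [hco]
        exact (hWmem _).mp w.2 φ
      exact h
    obtain ⟨cP, hcP⟩ := exists_pullback (i := incl.toCoalgHom) Subtype.val_injective cW hrange
    obtain ⟨w, hw, hwc⟩ := @ih P _ hPH _ hLP W _ _ cP _ _
    refine ⟨(w : V), fun h => hw (Subtype.ext h), fun φ => ?_⟩
    obtain ⟨b, hb⟩ := hwc (φ ∘ₗ W.subtype)
    obtain ⟨a, ha⟩ := exists_root_of_mem_frobSub p b.2
    refine ⟨a, ?_⟩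
    rw [← hco w φ, ← hcP, LinearMap.comp_apply, cL_lTensor, ← hb]
    show a ^ p ^ (r + 1) = ((b ^ p ^ r : P) : A)
    rw [SubmonoidClass.coe_pow, ← ha, ← pow_mul, pow_succ, mul_comm]

variable [Algebra.FiniteType k A]

section Limit

variable (V : Type u) [AddCommGroup V] [Module k V] [HopfRep.Comod k A V]

/-- The vectors with coefficients in all the `p ^ r`-th powers. -/
def formalFixed : Submodule k V :=
  ⨅ (r : ℕ) (φ : V →ₗ[k] k), (powSub (k := k) p A r).comap (cL φ ∘ₗ HopfRep.Comod.coact (k := k) (A := A))

theorem mem_formalFixed {v : V} : v ∈ formalFixed (k := k) p (A := A) V ↔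
    ∀ r φ, cL φ (HopfRep.Comod.coact (k := k) (A := A) v) ∈ powSub (k := k) p A r := by
  simp [formalFixed, Submodule.mem_iInf]

theorem formalFixed_ne_bot [Module.Finite k V] [Nontrivial V] (hL : NilLie k A) :
    formalFixed (k := k) p (A := A) V ≠ ⊥ := by
  classical
  let W : ℕ → Submodule k V := fun r =>
    ⨅ φ : V →ₗ[k] k, (powSub (k := k) p A r).comap (cL φ ∘ₗ HopfRep.Comod.coact (k := k) (A := A))
  have hanti : Antitone W := fun r s hrs => iInf_mono fun φ => Submodule.comap_mono (powSub_antitone p hrs)
  have hex : ∃ m, ∃ r, Module.finrank k (W r) = m := ⟨_, 0, rfl⟩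
  obtain ⟨N, hN⟩ := Nat.find_spec hex
  have hstab : ∀ r, W N ≤ W r := by
    intro r
    have h1 : W (max N r) ≤ W N := hanti (le_max_left N r)
    have h2 : W (max N r) = W N := Submodule.eq_of_le_of_finrank_le h1
      (hN.le.trans (Nat.find_min' hex ⟨_, rfl⟩))
    rw [← h2]
    exact hanti (le_max_right N r)
  obtain ⟨v, hv, hvc⟩ := exists_pow_coeff p N A hL V
  refine (Submodule.ne_bot_iff _).2 ⟨v, ?_, hv⟩
  have : v ∈ W N := by simp only [W, Submodule.mem_iInf, Submodule.mem_comap]; exact hvc
  have h := fun r => hstab r this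
  simp only [W, Submodule.mem_iInf, Submodule.mem_comap] at h
  exact (mem_formalFixed (k := k) (A := A) p V).mpr h

theorem act_formalFixed (g : A →ₐ[k] k) {v : V} (hv : v ∈ formalFixed (k := k) p (A := A) V) :
    HopfRep.Comod.act k A V g v ∈ formalFixed (k := k) p (A := A) V := by
  refine (mem_formalFixed (k := k) (A := A) p V).mpr fun r φ => ?_
  obtain ⟨a, ha⟩ := (mem_formalFixed (k := k) (A := A) p V).mp hv r φ
  show cL φ (HopfRep.Comod.coact (k := k) (A := A) (dact k A V (WithConv.toConv g.toLinearMap) v)) ∈ _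
  rw [← coeff_smul, ← ha]
  let R : A →ₐ[k] A := (Algebra.TensorProduct.rid k k A).toAlgHom.comp
    ((Algebra.TensorProduct.map (AlgHom.id k A) g).comp (Bialgebra.comulAlgHom k A))
  refine ⟨R a, ?_⟩
  rw [← map_pow]
  show TensorProduct.rid k A (Algebra.TensorProduct.map (AlgHom.id k A) g (comul (R := k) (a ^ p ^ r))) = _
  show _ = cR g.toLinearMap (comul (R := k) (a ^ p ^ r))
  generalize comul (R := k) (a ^ p ^ r) = t
  induction t using TensorProduct.induction_on with
  | zero => simp
  | tmul x y => simp
  | add x y hx hy => simp only [map_add, hx, hy]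

end Limit

/-- An element congruent to a scalar modulo all powers of every maximal ideal is that scalar. -/
theorem eq_of_forall_pow [IsAlgClosed k] (c : A) (lam : k)
    (h : ∀ (g : A →ₐ[k] k) (n : ℕ), c - algebraMap k A lam ∈ RingHom.ker g ^ n) :
    c = algebraMap k A lam := by
  haveI : IsNoetherianRing A := Algebra.FiniteType.isNoetherianRing k A
  rw [← sub_eq_zero]
  refine eq_zero_of_localization _ fun M hM => ?_
  haveI := hM
  letI : Field (A ⧸ M) := Ideal.Quotient.field M
  haveI : Algebra.FiniteType k (A ⧸ M) :=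
    Algebra.FiniteType.of_surjective (Ideal.Quotient.mkₐ k M) Ideal.Quotient.mk_surjective
  haveI : Module.Finite k (A ⧸ M) := finite_of_finite_type_of_isJacobsonRing k (A ⧸ M)
  let e : (A ⧸ M) →ₐ[k] k := IsAlgClosed.lift
  have hker : RingHom.ker (e.comp (Ideal.Quotient.mkₐ k M)) = M := by
    ext x
    rw [RingHom.mem_ker]
    show e (Ideal.Quotient.mk M x) = 0 ↔ _
    rw [map_eq_zero_iff e e.injective, Ideal.Quotient.eq_zero_iff_mem]
  have hmem : algebraMap A (Localization.AtPrime M) (c - algebraMap k A lam) ∈
      ⨅ n : ℕ, (IsLocalRing.maximalIdeal (Localization.AtPrime M)) ^ n := by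
    rw [Ideal.mem_iInf]
    intro n
    rw [← Localization.AtPrime.map_eq_maximalIdeal, ← Ideal.map_pow]
    exact Ideal.mem_map_of_mem _ (hker ▸ h (e.comp (Ideal.Quotient.mkₐ k M)) n)
  haveI : IsNoetherianRing (Localization.AtPrime M) := IsLocalization.isNoetherianRing M.primeCompl _ inferInstance
  rwa [Ideal.iInf_pow_eq_bot_of_isLocalRing _ (IsLocalRing.maximalIdeal.isMaximal _).ne_top, Ideal.mem_bot] at hmem

include hp hch in
/-- Nilpotent Lie algebra and unipotent points give a unipotent group. -/
theorem isUnipotent_of_nilLie [IsAlgClosed k] (hL : NilLie k A)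
    (hpts : ∀ (g : A →ₐ[k] k) (V : Type u) [AddCommGroup V] [Module k V] [HopfRep.Comod k A V],
      Module.Finite k V → IsNilpotent (HopfRep.Comod.act k A V g - 1)) :
    HopfRep.IsUnipotent k A := by
  intro V _ _ _ hfin hnt
  let W := formalFixed (k := k) p (A := A) V
  haveI : Nontrivial W := Submodule.nontrivial_iff_ne_bot.mpr (formalFixed_ne_bot p V hL)
  have hmap : ∀ g : WithConv (A →ₐ[k] k), ∀ v ∈ W, dact k A V (UnipConil.toC g) v ∈ W :=
    fun g v hv => act_formalFixed p V g.ofConv hv
  let ρ : Representation k (WithConv (A →ₐ[k] k)) W :=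
    { toFun := fun g => (dact k A V (UnipConil.toC g)).restrict (hmap g)
      map_one' := LinearMap.ext fun w => Subtype.ext (by simp)
      map_mul' := fun g g' => LinearMap.ext fun w => Subtype.ext (by simp) }
  obtain ⟨v, hv, hfix⟩ := Groth.Agent.S7975.result k (WithConv (A →ₐ[k] k)) W ρ fun g => by
    obtain ⟨n, hn⟩ := hpts g.ofConv V hfin
    have e : ∀ (j : ℕ) (w : W), (((ρ g - 1) ^ j) w : W).1 = ((HopfRep.Comod.act k A V g.ofConv - 1) ^ j) (w : V) := by
      intro j
      induction j with
      | zero => intro w; rfl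
      | succ j ihj =>
        intro w
        rw [pow_succ, pow_succ, Module.End.mul_apply, Module.End.mul_apply, ihj]
        rfl
    exact ⟨n, LinearMap.ext fun w => Subtype.ext (by rw [e, hn]; rfl)⟩
  refine (Submodule.ne_bot_iff _).2 ⟨(v : V), tensor_eq_of_cL fun φ => ?_, fun h => hv (Subtype.ext h)⟩
  rw [cL_tmul, ← Algebra.algebraMap_eq_smul_one]
  refine eq_of_forall_pow _ _ fun g n => ?_
  haveI : CharP A p := FinHopf.charP_of_algHom (Bialgebra.counitAlgHom k A) p
  obtain ⟨a, ha⟩ := (mem_formalFixed (k := k) (A := A) p V).mp v.2 n φ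
  have hval : g (cL φ (HopfRep.Comod.coact (k := k) (A := A) (v : V))) = φ (v : V) := by
    have h1 := congrArg Subtype.val (hfix (WithConv.toConv g))
    show g.toLinearMap (cL φ _) = _
    rw [cR_cL]
    exact congrArg φ h1
  have hga : (a - algebraMap k A (g a)) ^ p ^ n =
      cL φ (HopfRep.Comod.coact (k := k) (A := A) (v : V)) - algebraMap k A (φ (v : V)) := by
    rw [sub_pow_char_pow, ha, ← map_pow, ← map_pow, ha, hval]
  rw [← hga]
  refine Ideal.pow_le_pow_right (Nat.lt_pow_self hp.out.one_lt).le (Ideal.pow_mem_pow ?_ _)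
  rw [RingHom.mem_ker, map_sub, AlgHom.commutes]
  exact sub_self _

end Groth.Agent.UnipLie
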